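import Groth.Agent.TransLimLib.Point
import Groth.Agent.RichLib.LimStalk
import Mathlib.RingTheory.Regular.Flat

/-!
# Weakly regular sequences of sections in flat limits of schemes
-/

set_option autoImplicit false
set_option backward.isDefEq.respectTransparency false
set_option linter.unusedSectionVars false
set_option linter.style.haveILetI false

universe u

open CategoryTheory CategoryTheory.Limits AlgebraicGeometry RingTheory.Sequence TopologicalSpace

noncomputable section

namespace TransLimLib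

section Ring

variable {B : Type u} [CommRing B]

theorem weak_localization (M : Submonoid B) (B' : Type u) [CommRing B'] [Algebra B B'] [IsLocalization M B']
    (rs : List B) (h : IsWeaklyRegular B rs) : IsWeaklyRegular B' (rs.map (algebraMap B B')) :=
  IsWeaklyRegular.of_isLocalization B' M h

theorem weak_of_maximal (Bm : ∀ (P : Ideal B) [P.IsMaximal], Type u) [∀ (P : Ideal B) [P.IsMaximal], CommRing (Bm P)]
    [∀ (P : Ideal B) [P.IsMaximal], Algebra B (Bm P)]
    [∀ (P : Ideal B) [P.IsMaximal], IsLocalization.AtPrime (Bm P) P] (rs : List B)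
    (h : ∀ (P : Ideal B) [P.IsMaximal], IsWeaklyRegular (Bm P) (rs.map (algebraMap B (Bm P)))) :
    IsWeaklyRegular B rs := by
  refine (isWeaklyRegular_iff _).2 fun i hi x hx => ?_
  refine Submodule.mem_of_localization_maximal Bm (fun P _ => Algebra.linearMap B (Bm P)) x
    (Ideal.ofList (rs.take i)) fun P hP => ?_
  rw [Ideal.localized₀_eq_restrictScalars_map, Submodule.restrictScalars_mem]
  have h1 := (isWeaklyRegular_iff _).1 (h P) i (by rw [List.length_map]; exact hi) (algebraMap B (Bm P) x)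
  rw [ofList_map_take, List.getElem_map, ← map_mul] at h1
  exact h1 (Ideal.mem_map_of_mem _ hx)

/-- Weak regularity descends along faithfully flat ring maps. -/
theorem weak_of_faithfullyFlat (B' : Type u) [CommRing B'] [Algebra B B'] [Module.FaithfullyFlat B B']
    (rs : List B) (h : IsWeaklyRegular B' (rs.map (algebraMap B B'))) : IsWeaklyRegular B rs := by
  refine (isWeaklyRegular_iff _).2 fun i hi x hx => ?_
  have h1 := (isWeaklyRegular_iff _).1 h i (by rw [List.length_map]; exact hi) (algebraMap B B' x)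
  rw [ofList_map_take, List.getElem_map, ← map_mul] at h1
  have h2 : x ∈ ((Ideal.ofList (rs.take i)).map (algebraMap B B')).comap (algebraMap B B') :=
    h1 (Ideal.mem_map_of_mem _ hx)
  rwa [Ideal.comap_map_eq_self_of_faithfullyFlat] at h2

/-- Near a prime of a Noetherian ring at which a sequence is weakly regular, it is weakly regular. -/
theorem exists_weak_nhd [IsNoetherianRing B] (rs : List B) (q : Ideal B) [q.IsPrime] (Bq : Type u) [CommRing Bq]
    [Algebra B Bq] [IsLocalization.AtPrime Bq q] (h : IsWeaklyRegular Bq (rs.map (algebraMap B Bq))) :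
    ∃ t ∉ q, ∀ (M : Submonoid B) (B' : Type u) [CommRing B'] [Algebra B B'] [IsLocalization M B'],
      t ∈ M → IsWeaklyRegular B' (rs.map (algebraMap B B')) := by
  classical
  have hk : ∀ k : Fin rs.length, ∃ t ∉ q, ∀ x, rs[k] * x ∈ Ideal.ofList (rs.take k) →
      t * x ∈ Ideal.ofList (rs.take k) := by
    intro k
    let J := Ideal.ofList (rs.take k)
    let C : Ideal B := Submodule.comap (LinearMap.mulLeft B rs[k]) J
    obtain ⟨T, hT⟩ := (IsNoetherian.noetherian C : C.FG)
    have hc : ∀ c : T, ∃ t ∉ q, t * (c : B) ∈ J := fun c => by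
      have hcC : rs[k] * (c : B) ∈ J := (hT ▸ Submodule.subset_span c.2 : (c : B) ∈ C)
      have h1 := (isWeaklyRegular_iff _).1 h k (by rw [List.length_map]; exact k.2) (algebraMap B Bq c)
      rw [ofList_map_take, List.getElem_map, ← map_mul] at h1
      have h2 := h1 (Ideal.mem_map_of_mem _ hcC)
      rw [← IsLocalization.mk'_one (M := q.primeCompl), IsLocalization.mk'_mem_map_algebraMap_iff] at h2
      exact h2
    choose t ht htJ using hc
    refine ⟨∏ c, t c, fun hmem => ?_, fun x hx => ?_⟩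
    · obtain ⟨c, -, hcq⟩ := (Ideal.IsPrime.prod_mem_iff (p := q)).1 hmem
      exact ht c hcq
    · have hxC : x ∈ C := hx
      rw [← hT] at hxC
      refine Submodule.span_induction (fun c hc => ?_) (by simp) (fun a b _ _ ha hb => ?_) (fun r a _ ha => ?_) hxC
      · rw [← Finset.mul_prod_erase _ _ (Finset.mem_univ (⟨c, hc⟩ : T)), mul_comm (t _), mul_assoc]
        exact Ideal.mul_mem_left _ _ (htJ ⟨c, hc⟩)
      · rw [mul_add]; exact add_mem ha hb
      · rw [smul_eq_mul, mul_left_comm]; exact Ideal.mul_mem_left _ _ ha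
  choose t ht htx using hk
  refine ⟨∏ k, t k, fun hmem => ?_, fun M B' _ _ _ htM => (isWeaklyRegular_iff _).2 fun i hi z hz => ?_⟩
  · obtain ⟨c, -, hcq⟩ := (Ideal.IsPrime.prod_mem_iff (p := q)).1 hmem
    exact ht c hcq
  · rw [List.length_map] at hi
    rw [ofList_map_take] at hz ⊢
    rw [List.getElem_map] at hz
    obtain ⟨b, s, rfl⟩ := IsLocalization.exists_mk'_eq M z
    rw [IsLocalization.mul_mk'_eq_mk'_of_mul, IsLocalization.mk'_mem_map_algebraMap_iff] at hz
    obtain ⟨u, hu, huJ⟩ := hz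
    rw [IsLocalization.mk'_mem_map_algebraMap_iff]
    refine ⟨(∏ k, t k) * u, M.mul_mem htM hu, ?_⟩
    have h2 := htx ⟨i, hi⟩ (u * b) (by rw [mul_left_comm]; exact huJ)
    rw [← Finset.mul_prod_erase _ _ (Finset.mem_univ (⟨i, hi⟩ : Fin rs.length)), mul_comm (t _), mul_assoc,
      mul_assoc]
    exact Ideal.mul_mem_left _ _ h2

end Ring

variable {X : Scheme.{u}}

/-- Weak regularity on an affine open is weak regularity at all its points. -/
theorem weak_affine_iff {U : X.Opens} (hU : IsAffineOpen U) (rs : List Γ(X, U)) :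
    IsWeaklyRegular Γ(X, U) rs ↔
      ∀ (x : X) (hx : x ∈ U), IsWeaklyRegular (X.presheaf.stalk x) (rs.map (X.presheaf.germ U x hx).hom) := by
  constructor
  · intro h x hx
    letI := TopCat.Presheaf.algebra_section_stalk X.presheaf (⟨x, hx⟩ : U)
    haveI := hU.isLocalization_stalk ⟨x, hx⟩
    exact weak_localization (hU.primeIdealOf ⟨x, hx⟩).asIdeal.primeCompl (X.presheaf.stalk x) rs h
  · intro h
    have hmem : ∀ (P : Ideal Γ(X, U)) [P.IsMaximal], hU.fromSpec ⟨P, inferInstance⟩ ∈ U := fun P _ =>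
      (hU.isoSpec.inv _).2
    let Bm : ∀ (P : Ideal Γ(X, U)) [P.IsMaximal], Type u := fun P _ =>
      X.presheaf.stalk (hU.fromSpec ⟨P, inferInstance⟩)
    letI cr : ∀ (P : Ideal Γ(X, U)) [P.IsMaximal], CommRing (Bm P) := fun P _ =>
      inferInstanceAs (CommRing (X.presheaf.stalk (hU.fromSpec ⟨P, inferInstance⟩)))
    letI alg : ∀ (P : Ideal Γ(X, U)) [P.IsMaximal], Algebra Γ(X, U) (Bm P) :=
      fun P _ => TopCat.Presheaf.algebra_section_stalk X.presheaf (⟨_, hmem P⟩ : U)
    have hloc : ∀ (P : Ideal Γ(X, U)) [P.IsMaximal], IsLocalization.AtPrime (Bm P) P :=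
      fun P _ => hU.isLocalization_stalk' ⟨P, inferInstance⟩ (hmem P)
    exact @weak_of_maximal Γ(X, U) _ Bm cr alg hloc rs fun P hP => h _ (hmem P)

/-- Weak regularity at a point of a Noetherian scheme spreads to a neighbourhood. -/
theorem exists_weak_open [IsLocallyNoetherian X] {U : X.Opens} (hU : IsAffineOpen U) (rs : List Γ(X, U))
    {x : X} (hx : x ∈ U) (h : IsWeaklyRegular (X.presheaf.stalk x) (rs.map (X.presheaf.germ U x hx).hom)) :
    ∃ t : Γ(X, U), x ∈ X.basicOpen t ∧
      IsWeaklyRegular Γ(X, X.basicOpen t)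
        (rs.map (X.presheaf.map (homOfLE (X.basicOpen_le t)).op).hom) := by
  haveI := IsLocallyNoetherian.component_noetherian ⟨U, hU⟩
  letI := TopCat.Presheaf.algebra_section_stalk X.presheaf (⟨x, hx⟩ : U)
  haveI := hU.isLocalization_stalk ⟨x, hx⟩
  obtain ⟨t, ht, hloc⟩ := exists_weak_nhd rs (hU.primeIdealOf ⟨x, hx⟩).asIdeal (X.presheaf.stalk x) h
  refine ⟨t, (X.mem_basicOpen _ _ hx).2 ?_, ?_⟩
  · exact IsLocalization.map_units (X.presheaf.stalk x) (⟨t, ht⟩ : (hU.primeIdealOf ⟨x, hx⟩).asIdeal.primeCompl)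
  · letI := (X.presheaf.map (homOfLE (X.basicOpen_le t)).op).hom.toAlgebra
    haveI := hU.isLocalization_basicOpen t
    exact hloc (Submonoid.powers t) Γ(X, X.basicOpen t) ⟨1, pow_one t⟩

/-- Global sections are weakly regular at a point. -/
def WAt (fs : List Γ(X, ⊤)) (x : X) : Prop := IsWeaklyRegular (X.presheaf.stalk x) (germs fs x)

theorem forall_weak_affine_iff (fs : List Γ(X, ⊤)) :
    (∀ U : X.affineOpens, IsWeaklyRegular Γ(X, U.1) (restr fs U.1)) ↔ ∀ x, WAt fs x := by
  constructor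
  · intro H x
    obtain ⟨_, ⟨U, hU, rfl⟩, hxU, -⟩ :=
      X.isBasis_affineOpens.exists_subset_of_mem_open (Set.mem_univ x) isOpen_univ
    have h1 := (weak_affine_iff hU _).1 (H ⟨U, hU⟩) x hxU
    rwa [germ_restr fs U x hxU] at h1
  · intro H U
    refine (weak_affine_iff U.2 _).2 fun x hx => ?_
    rw [germ_restr fs U.1 x hx]
    exact H x

theorem isOpen_wAt [IsLocallyNoetherian X] (fs : List Γ(X, ⊤)) : IsOpen {x | WAt fs x} := by
  refine isOpen_iff_forall_mem_open.2 fun x hx => ?_
  obtain ⟨_, ⟨U, hU, rfl⟩, hxU, -⟩ :=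
    X.isBasis_affineOpens.exists_subset_of_mem_open (Set.mem_univ x) isOpen_univ
  obtain ⟨t, hxt, ht⟩ := exists_weak_open hU (restr fs U) hxU (by rw [germ_restr fs U x hxU]; exact hx)
  refine ⟨X.basicOpen t, fun y hy => ?_, (X.basicOpen t).2, hxt⟩
  have h1 := (weak_affine_iff (hU.basicOpen t) _).1 ht y hy
  rw [List.map_map] at h1
  show IsWeaklyRegular _ _
  rw [← germ_restr fs U y (X.basicOpen_le t hy)]
  convert h1 using 1
  exact List.map_congr_left fun s _ => (X.presheaf.germ_res_apply _ y hy s).symm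

variable {Y : Scheme.{u}} (m : Y ⟶ X) [Flat m]

/-- Weak regularity of germs can be checked after a flat local homomorphism. -/
theorem weak_stalkMap_iff (y : Y) (l : List (X.presheaf.stalk (m y))) :
    IsWeaklyRegular (X.presheaf.stalk (m y)) l ↔ IsWeaklyRegular (Y.presheaf.stalk y) (l.map (m.stalkMap y).hom) := by
  letI := (m.stalkMap y).hom.toAlgebra
  haveI : Module.Flat (X.presheaf.stalk (m y)) (Y.presheaf.stalk y) := Flat.stalkMap m y
  haveI : IsLocalHom (algebraMap (X.presheaf.stalk (m y)) (Y.presheaf.stalk y)) :=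
    inferInstanceAs (IsLocalHom (m.stalkMap y).hom)
  haveI : Module.FaithfullyFlat (X.presheaf.stalk (m y)) (Y.presheaf.stalk y) :=
    Module.FaithfullyFlat.of_flat_of_isLocalHom
  exact ⟨fun h => IsWeaklyRegular.of_flat h, fun h => weak_of_faithfullyFlat _ l h⟩

theorem weak_germ_iff {U : X.Opens} (rs : List Γ(X, U)) {W : Y.Opens} (e : W ≤ m ⁻¹ᵁ U) (y : Y) (hy : y ∈ W) :
    IsWeaklyRegular (X.presheaf.stalk (m y)) (rs.map (X.presheaf.germ U (m y) (e hy)).hom) ↔
      IsWeaklyRegular (Y.presheaf.stalk y) ((rs.map (m.appLE U W e).hom).map (Y.presheaf.germ W y hy).hom) := by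
  rw [weak_stalkMap_iff m y, List.map_map, List.map_map]
  refine Eq.to_iff (congrArg _ (List.map_congr_left fun s _ => ?_))
  exact (RichLib.LimStalk.germ_appLE m e hy s).symm

theorem wAt_iff (fs : List Γ(X, ⊤)) (y : Y) : WAt fs (m y) ↔ WAt (fs.map m.appTop.hom) y := by
  rw [WAt, WAt, weak_stalkMap_iff m y, germs, germs, List.map_map, List.map_map]
  refine Eq.to_iff (congrArg _ (List.map_congr_left fun s _ => ?_))
  exact Scheme.Hom.germ_stalkMap_apply m ⊤ y trivial s

section Limit

variable {I : Type u} [SmallCategory I] [IsCofiltered I] (D : I ⥤ Scheme.{u}) (c : Cone D) (hc : IsLimit c)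
  [∀ (i j : I) (f : i ⟶ j), IsAffineHom (D.map f)] (hflat : ∀ (i j : I) (f : i ⟶ j), Flat (D.map f))

include hc in
theorem range_π_eq_univ (hs : ∀ (i j : I) (f : i ⟶ j), Surjective (D.map f)) (i : I) :
    Set.range (c.π.app i) = Set.univ := by
  rw [RichLib.LimTop.range_π D c hc i]
  exact Set.eq_univ_of_forall fun x => Set.mem_iInter₂.2 fun j φ => (hs j i φ).surj x

include hc hflat in
theorem wAt_limit_iff (hcase : (∀ i : I, IsLocallyNoetherian (D.obj i)) ∨
    ∀ (i j : I) (f : i ⟶ j), Surjective (D.map f)) (i₀ : I) [CompactSpace (D.obj i₀)] (fs : List Γ(D.obj i₀, ⊤)) :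
    (∀ x : c.pt, WAt (fs.map (c.π.app i₀).appTop.hom) x) ↔
      ∃ (j : I) (φ : j ⟶ i₀), ∀ x, WAt (fs.map (D.map φ).appTop.hom) x := by
  haveI : ∀ i, Flat (c.π.app i) := fun i => RichLib.LimStalk.flat_π D c hc fun j φ => hflat j i φ
  constructor
  · intro H
    have hr : ∀ x ∈ Set.range (c.π.app i₀), WAt fs x := by
      rintro _ ⟨s, rfl⟩
      exact (wAt_iff (c.π.app i₀) fs s).2 (H s)
    rcases hcase with hN | hS
    · haveI := hN i₀
      obtain ⟨j, φ, hj⟩ := RichLib.LimTop.exists_inter_range_subset' D c hc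
        (RichLib.LimTop.isIndConstructible_of_isOpen (isOpen_wAt fs)) hr
      haveI := hflat j i₀ φ
      exact ⟨j, φ, fun x => (wAt_iff (D.map φ) fs x).1 (hj ⟨x, rfl⟩)⟩
    · refine ⟨i₀, 𝟙 i₀, fun x => ?_⟩
      haveI := hflat i₀ i₀ (𝟙 i₀)
      exact (wAt_iff (D.map (𝟙 i₀)) fs x).1 (hr _ ((range_π_eq_univ D c hc hS i₀).symm ▸ Set.mem_univ _))
  · rintro ⟨j, φ, H⟩ x
    have h1 := (wAt_iff (c.π.app j) _ x).1 (H _)
    rw [List.map_map] at h1
    refine (congrArg (fun g : Γ(D.obj i₀, ⊤) → Γ(c.pt, ⊤) => WAt (fs.map g) x) (funext fun s => ?_)).mp h1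
    exact ConcreteCategory.congr_hom
      ((Scheme.Hom.comp_appTop _ _).symm.trans (congrArg Scheme.Hom.appTop (c.w φ))) s

end Limit

end TransLimLib
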