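import Groth.Agent.TransLimLib.ImmLimit
import Groth.Agent.TransLimLib.Weak
import Mathlib

/-!
# Descent of regular immersions along flat limits
-/

set_option autoImplicit false
set_option backward.isDefEq.respectTransparency false
set_option linter.unusedSectionVars false
set_option linter.style.haveILetI false
set_option maxHeartbeats 1600000

universe u

open CategoryTheory CategoryTheory.Limits AlgebraicGeometry TopologicalSpace RichLib.LimBC RingTheory.Sequence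

noncomputable section

namespace TransLimLib

theorem ker_app_ne_top {Y X : Scheme.{u}} (i : Y ⟶ X) {U : X.Opens} (y : Y) (hy : i y ∈ U) :
    RingHom.ker (i.app U).hom ≠ ⊤ := by
  intro h
  have h1 : (i.app U).hom 1 = 0 := RingHom.mem_ker.1 (h ▸ Submodule.mem_top)
  rw [map_one] at h1
  have h2 := congrArg (Y.presheaf.germ (i ⁻¹ᵁ U) y hy) h1
  rw [map_one, map_zero] at h2
  exact one_ne_zero h2

theorem isRegular_of_isWeaklyRegular_ker {Y X : Scheme.{u}} (i : Y ⟶ X) {U : X.Opens} (y : Y) (hy : i y ∈ U)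
    (rs : List Γ(X, U)) (hker : RingHom.ker (i.app U).hom = Ideal.ofList rs)
    (h : IsWeaklyRegular Γ(X, U) rs) : IsRegular Γ(X, U) rs := by
  refine ⟨h, fun htop => ker_app_ne_top i y hy ?_⟩
  rw [smul_eq_mul, Ideal.mul_top] at htop
  rw [hker, ← htop]

/-- Regular immersions base change along flat affine morphisms. -/
theorem regImmAt_baseChange {Y X Y' X' : Scheme.{u}} {i : Y ⟶ X} {i' : Y' ⟶ X'} {mY : Y' ⟶ Y} {m : X' ⟶ X}
    (sq : IsPullback mY i' i m) [Flat m] [IsAffineHom m] (z : Y')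
    (H : RegImm.IsRegularImmersionAt RegImm.Kind.regular i (mY z)) :
    RegImm.IsRegularImmersionAt RegImm.Kind.regular i' z := by
  obtain ⟨U, hzU, hcl, rs, hreg, hker⟩ := H
  have hz' : i' z ∈ m ⁻¹ᵁ U.1 := by
    show m (i' z) ∈ U.1
    rwa [← Scheme.Hom.comp_apply, ← sq.w, Scheme.Hom.comp_apply]
  have hker' : RingHom.ker (i'.app (m ⁻¹ᵁ U.1)).hom = Ideal.ofList (rs.map (m.appLE U.1 (m ⁻¹ᵁ U.1) le_rfl).hom) := by
    rw [ker_app_baseChange sq U.2 hcl (U.2.preimage m) le_rfl, hker, Ideal.map_ofList]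
  refine ⟨⟨m ⁻¹ᵁ U.1, U.2.preimage m⟩, hz', isClosedImmersion_restrict sq hcl le_rfl, _, ?_, hker'⟩
  refine isRegular_of_isWeaklyRegular_ker i' z hz' _ hker' ((weak_affine_iff (U.2.preimage m) _).2 fun y hy => ?_)
  exact (weak_germ_iff m rs le_rfl y hy).1 ((weak_affine_iff U.2 rs).1 hreg.toIsWeaklyRegular (m y) hy)

variable {I : Type u} [SmallCategory I] [IsCofiltered I] (D : I ⥤ Scheme.{u}) (c : Cone D) (hc : IsLimit c)
  [∀ (i j : I) (a : i ⟶ j), IsAffineHom (D.map a)] (hflat : ∀ (i j : I) (f : i ⟶ j), Flat (D.map f))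
  {X₀ : Scheme.{u}} {i₀ : I} (j₀ : X₀ ⟶ D.obj i₀)

/-- The points at which the base change is a regular immersion. -/
def GoodR {Z : Scheme.{u}} (p : Z ⟶ D.obj i₀) : Set ↥(pullback j₀ p) :=
  {z | RegImm.IsRegularImmersionAt RegImm.Kind.regular (pullback.snd j₀ p) z}

theorem isOpen_goodR {Z : Scheme.{u}} (p : Z ⟶ D.obj i₀) : IsOpen (GoodR D j₀ p) := by
  rw [isOpen_iff_forall_mem_open]
  rintro z ⟨U, hzU, hcl, rs, hreg, hker⟩
  exact ⟨pullback.snd j₀ p ⁻¹ᵁ U.1, fun y hy => ⟨U, hy, hcl, rs, hreg, hker⟩,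
    (pullback.snd j₀ p ⁻¹ᵁ U.1).2, hzU⟩

include hc hflat in
theorem exists_goodR_stage [IsImmersion j₀]
    (hcase : (∀ i : I, IsLocallyNoetherian (D.obj i)) ∨
      ((∀ (i j : I) (f : i ⟶ j), Surjective (D.map f)) ∧ LocallyOfFinitePresentation j₀))
    (z : ↥(pullback j₀ (c.π.app i₀))) (H : z ∈ GoodR D j₀ (c.π.app i₀)) :
    ∃ φ : Over i₀, pbπ (ofStage D c hc i₀) j₀ φ z ∈ GoodR D j₀ (D.map φ.hom) := by
  classical
  obtain ⟨U, hzU, hcl, rs, hreg, hker⟩ := H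
  let B := ofStage D c hc i₀
  haveI : ∀ {a b : Over i₀} (f : a ⟶ b), IsAffineHom (B.D.map f) := fun f => B.affine_map f
  haveI : ∀ a, IsAffineHom (B.c.π.app a) := fun a => isAffineHom_π_app B.D B.c B.hc a
  haveI : ∀ a : Over i₀, Flat (B.c.π.app a) := fun a =>
    RichLib.LimStalk.flat_π D c hc fun j φ => hflat j a.left φ
  let x : B.c.pt := pullback.snd j₀ (c.π.app i₀) z
  let x₀ : D.obj i₀ := c.π.app i₀ x
  have hx₀ : x₀ ∈ j₀.coborderRange := by
    refine subset_coborder ⟨pullback.fst j₀ (c.π.app i₀) z, ?_⟩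
    show _ = c.π.app i₀ (pullback.snd j₀ (c.π.app i₀) z)
    rw [← Scheme.Hom.comp_apply, ← Scheme.Hom.comp_apply, pullback.condition]
  obtain ⟨U₀, hU₀, hxU₀, hU₀le⟩ : ∃ U₀ : (D.obj i₀).Opens, IsAffineOpen U₀ ∧ x₀ ∈ U₀ ∧ U₀ ≤ j₀.coborderRange :=
    Opens.isBasis_iff_nbhd.mp (D.obj i₀).isBasis_affineOpens (U := j₀.coborderRange) (x := x₀) hx₀
  have hcl₀ := isClosedImmersion_restrict_of_le_coborder j₀ hU₀le
  let φ₀ : Over i₀ := Over.mk (𝟙 i₀)
  haveI : IsAffineHom (B.t φ₀) := B.affine φ₀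
  let U₁ : (B.D.obj φ₀).Opens := B.t φ₀ ⁻¹ᵁ U₀
  have hU₁ : IsAffineOpen U₁ := hU₀.preimage _
  have hxU₁ : x ∈ B.c.π.app φ₀ ⁻¹ᵁ U₁ := by
    show (B.c.π.app φ₀ ≫ B.t φ₀) x ∈ U₀
    rw [B.hs φ₀]
    exact hxU₀
  obtain ⟨s, r, hsr, hxs⟩ :=
    exists_basicOpen_le_affine_inter (hU₁.preimage (B.c.π.app φ₀)) U.2 x ⟨hxU₁, hzU⟩
  obtain ⟨j, a, t, ht⟩ := RichLib.LimSec.exists_app_π_eq B.D B.c B.hc hU₁ s
  let D₁ : (B.D.obj j).Opens := (B.D.obj j).basicOpen t
  have hD₁ : IsAffineOpen D₁ := (hU₁.preimage (B.D.map a)).basicOpen t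
  have hpre : B.c.π.app j ⁻¹ᵁ D₁ = B.c.pt.basicOpen s := by
    rw [← ht, Scheme.preimage_basicOpen, Scheme.Hom.appLE, CommRingCat.comp_apply]
    refine Eq.trans (inf_eq_right.mpr ?_).symm (Scheme.basicOpen_res B.c.pt _ _).symm
    refine (Scheme.basicOpen_le _ _).trans ?_
    rw [← Scheme.Hom.comp_preimage, B.c.w a]
  have hD₁U : B.c.π.app j ⁻¹ᵁ D₁ ≤ U.1 := hpre.le.trans (le_of_eq_of_le hsr (Scheme.basicOpen_le _ _))
  obtain ⟨k, b, hkb⟩ := RichLib.LimSec.exists_app_π_eq_finset B.D B.c B.hc hD₁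
    (rs.map fun y => B.c.pt.presheaf.map (homOfLE hD₁U).op y).toFinset
  let Uk : (B.D.obj k).Opens := B.D.map b ⁻¹ᵁ D₁
  have hUk : IsAffineOpen Uk := hD₁.preimage _
  let E : B.c.pt.Opens := B.c.π.app k ⁻¹ᵁ Uk
  have hE : IsAffineOpen E := hUk.preimage _
  have hEeq : E = B.c.π.app j ⁻¹ᵁ D₁ := by
    show B.c.π.app k ⁻¹ᵁ (B.D.map b ⁻¹ᵁ D₁) = _
    rw [← Scheme.Hom.comp_preimage, B.c.w b]
  have hEU : E ≤ U.1 := hEeq ▸ hD₁U
  obtain ⟨rk, hrk⟩ := exists_map_list ((B.c.π.app k).appLE Uk E le_rfl).hom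
    (rs.map (B.c.pt.presheaf.map (homOfLE hEU).op).hom) fun y hy => by
      obtain ⟨w, hw, rfl⟩ := List.mem_map.1 hy
      obtain ⟨t', ht'⟩ := hkb (B.c.pt.presheaf.map (homOfLE hD₁U).op w)
        (List.mem_toFinset.2 (List.mem_map.2 ⟨w, hw, rfl⟩))
      refine ⟨t', (ConcreteCategory.congr_hom (Scheme.Hom.appLE_map (f := B.c.π.app k)
        (RichLib.LimSec.le_preimage B.D B.c D₁ b) (homOfLE hEeq.le).op) t').symm.trans
        ((congrArg (fun q => B.c.pt.presheaf.map (homOfLE hEeq.le).op q) ht').trans ?_)⟩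
      exact (ConcreteCategory.congr_hom (B.c.pt.presheaf.map_comp (homOfLE hD₁U).op (homOfLE hEeq.le).op) w).symm
  have hxE : x ∈ E := by rw [hEeq, hpre]; exact hxs
  -- the ideal at stage `k`
  have sqk : IsPullback (pullback.fst j₀ (B.t k)) (pullback.snd j₀ (B.t k)) j₀ (B.t k) :=
    IsPullback.of_hasPullback _ _
  have hUk₀ : Uk ≤ B.t k ⁻¹ᵁ U₀ := by
    refine (Scheme.Hom.preimage_mono _ ((Scheme.basicOpen_le _ _).trans
      (le_of_eq (Scheme.Hom.comp_preimage _ _ _).symm))).trans ?_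
    rw [← Scheme.Hom.comp_preimage, B.w a, B.w b]
  have hclk : IsClosedImmersion (pullback.snd j₀ (B.t k) ∣_ Uk) := isClosedImmersion_restrict sqk hcl₀ hUk₀
  let Ik := RingHom.ker ((pullback.snd j₀ (B.t k)).app Uk).hom
  have hIk : Ik.FG := by
    rcases hcase with hN | ⟨-, hfp⟩
    · haveI : IsLocallyNoetherian (B.D.obj k) := hN k.left
      haveI := IsLocallyNoetherian.component_noetherian (X := B.D.obj k) ⟨Uk, hUk⟩
      exact IsNoetherian.noetherian Ik
    · haveI : LocallyOfFinitePresentation (pullback.snd j₀ (B.t k)) :=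
        MorphismProperty.of_isPullback (P := @LocallyOfFinitePresentation) sqk hfp
      exact ker_app_fg hUk hclk
  have hlim : Ik.map ((B.c.π.app k).appLE Uk E le_rfl).hom =
      (Ideal.ofList rk).map ((B.c.π.app k).appLE Uk E le_rfl).hom := by
    have h1 := ker_app_baseChange (isPullback_cone B j₀ k) hUk hclk hE (le_rfl : E ≤ B.c.π.app k ⁻¹ᵁ Uk)
    have h2 := ker_app_baseChange (mY := 𝟙 _) (m := 𝟙 _)
      (i := pullback.snd j₀ (c.π.app i₀)) (i' := pullback.snd j₀ (c.π.app i₀))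
      (IsPullback.of_horiz_isIso ⟨by simp⟩) U.2 hcl hE (hEU.trans (by simp))
    refine h1.symm.trans (h2.trans ?_)
    rw [hker, Ideal.map_ofList, Ideal.map_ofList, hrk]
    congr 2
  obtain ⟨l, d, hld⟩ := exists_map_eq_stage B.D B.c B.hc hUk hIk (ofList_fg rk) hlim
  let Ul : (B.D.obj l).Opens := B.D.map d ⁻¹ᵁ Uk
  have hUl : IsAffineOpen Ul := hUk.preimage _
  let rl := rk.map ((B.D.map d).appLE Uk Ul le_rfl).hom
  have hkerl : RingHom.ker ((pullback.snd j₀ (B.t l)).app Ul).hom = Ideal.ofList rl := by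
    refine (ker_app_baseChange (isPullback_map B j₀ d) hUk hclk hUl le_rfl).trans (hld.trans ?_)
    rw [Ideal.map_ofList]
  have hcll : IsClosedImmersion (pullback.snd j₀ (B.t l) ∣_ Ul) :=
    isClosedImmersion_restrict (isPullback_map B j₀ d) hclk le_rfl
  have hEl : B.c.π.app l ⁻¹ᵁ Ul = E := by
    show B.c.π.app l ⁻¹ᵁ (B.D.map d ⁻¹ᵁ Uk) = _
    rw [← Scheme.Hom.comp_preimage, B.c.w d]
  have hwl : ∀ (y : B.c.pt) (hy : B.c.π.app l y ∈ Ul),
      IsWeaklyRegular ((B.D.obj l).presheaf.stalk (B.c.π.app l y))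
        (rl.map ((B.D.obj l).presheaf.germ Ul (B.c.π.app l y) hy).hom) := by
    intro y hy
    have hyE : y ∈ E := hEl.le hy
    refine (weak_germ_iff (B.c.π.app l) rl (W := B.c.π.app l ⁻¹ᵁ Ul) le_rfl y hy).2 ?_
    have h1 : IsWeaklyRegular (B.c.pt.presheaf.stalk y) (rs.map (B.c.pt.presheaf.germ U.1 y (hEU hyE)).hom) :=
      (weak_affine_iff U.2 rs).1 hreg.toIsWeaklyRegular y (hEU hyE)
    have h2 : rs.map (B.c.pt.presheaf.germ U.1 y (hEU hyE)).hom =
        (rk.map ((B.c.π.app k).appLE Uk E le_rfl).hom).map (B.c.pt.presheaf.germ E y hyE).hom := by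
      rw [hrk, List.map_map]
      exact List.map_congr_left fun w _ => (B.c.pt.presheaf.germ_res_apply (homOfLE hEU) y hyE w).symm
    rw [h2] at h1
    show IsWeaklyRegular (B.c.pt.presheaf.stalk y) ((rl.map ((B.c.π.app l).appLE Ul (B.c.π.app l ⁻¹ᵁ Ul) le_rfl).hom).map
      (B.c.pt.presheaf.germ (B.c.π.app l ⁻¹ᵁ Ul) y hy).hom)
    refine (congrArg (IsWeaklyRegular (B.c.pt.presheaf.stalk y)) ?_).mpr h1
    simp only [rl, List.map_map]
    refine List.map_congr_left fun w _ => ?_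
    show B.c.pt.presheaf.germ _ y hy ((((B.D.map d).appLE Uk Ul le_rfl) ≫
      (B.c.π.app l).appLE Ul (B.c.π.app l ⁻¹ᵁ Ul) le_rfl) w) = B.c.pt.presheaf.germ E y hyE _
    rw [Scheme.Hom.appLE_comp_appLE]
    simp only [B.c.w d]
    rw [← B.c.pt.presheaf.germ_res_apply (homOfLE hEl.le) y hy]
    refine congrArg (B.c.pt.presheaf.germ (B.c.π.app l ⁻¹ᵁ Ul) y hy) ?_
    exact (ConcreteCategory.congr_hom (Scheme.Hom.appLE_map (f := B.c.π.app k) _ _) w).symm
  have hxl : B.c.π.app l x ∈ Ul := hEl.ge hxE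
  have hzl : pullback.snd j₀ (B.t l) (pbπ B j₀ l z) = B.c.π.app l x :=
    congrArg (fun f : pullback j₀ B.s ⟶ B.D.obj l => f z) (pbπ_snd B j₀ l)
  refine ⟨l, ?_⟩
  rcases hcase with hN | ⟨hS, -⟩
  · haveI : IsLocallyNoetherian (B.D.obj l) := hN l.left
    obtain ⟨w, hxw, hw⟩ := exists_weak_open hUl rl hxl (hwl x hxl)
    have hle := (B.D.obj l).basicOpen_le w
    have hkw : RingHom.ker ((pullback.snd j₀ (B.t l)).app ((B.D.obj l).basicOpen w)).hom =
        Ideal.ofList (rl.map ((B.D.obj l).presheaf.map (homOfLE hle).op).hom) := by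
      refine (ker_app_baseChange (mY := 𝟙 _) (m := 𝟙 (B.D.obj l)) (i := pullback.snd j₀ (B.t l)) (i' := pullback.snd j₀ (B.t l))
        (IsPullback.of_horiz_isIso ⟨by simp⟩) hUl hcll (hUl.basicOpen w) (hle.trans (by simp))).trans ?_
      rw [hkerl, Ideal.map_ofList]
      congr 2
    exact ⟨⟨_, hUl.basicOpen w⟩, hzl ▸ hxw, isClosedImmersion_restrict (mY := 𝟙 _) (m := 𝟙 (B.D.obj l))
      (i := pullback.snd j₀ (B.t l)) (i' := pullback.snd j₀ (B.t l))
      (IsPullback.of_horiz_isIso ⟨by simp⟩) hcll (hle.trans (by simp)), _,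
      isRegular_of_isWeaklyRegular_ker _ (pbπ B j₀ l z) (hzl ▸ hxw) _ hkw hw, hkw⟩
  · refine ⟨⟨Ul, hUl⟩, hzl ▸ hxl, hcll, rl, ?_, hkerl⟩
    refine isRegular_of_isWeaklyRegular_ker _ (pbπ B j₀ l z) (hzl ▸ hxl) rl hkerl
      ((weak_affine_iff hUl rl).2 fun p hp => ?_)
    obtain ⟨y, rfl⟩ : p ∈ Set.range (B.c.π.app l) := by
      show p ∈ Set.range (c.π.app l.left)
      rw [range_π_eq_univ D c hc hS l.left]
      trivial
    exact hwl y hp

include hc hflat in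
/-- A regular immersion on the limit is one at some stage, and conversely. -/
theorem forall_goodR_iff [CompactSpace X₀] [IsImmersion j₀]
    (hcase : (∀ i : I, IsLocallyNoetherian (D.obj i)) ∨
      ((∀ (i j : I) (f : i ⟶ j), Surjective (D.map f)) ∧ LocallyOfFinitePresentation j₀)) :
    (∀ z, z ∈ GoodR D j₀ (c.π.app i₀)) ↔ ∃ (j : I) (φ : j ⟶ i₀), ∀ z, z ∈ GoodR D j₀ (D.map φ) := by
  classical
  let B := ofStage D c hc i₀
  let BY := pb B j₀
  haveI : ∀ {a b : Over i₀} (f : a ⟶ b), IsAffineHom (BY.D.map f) := fun f => BY.affine_map f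
  haveI : ∀ {a b : I} (f : a ⟶ b), IsAffineHom (D.map f) := fun f => inferInstance
  haveI : ∀ a, IsAffineHom (c.π.app a) := fun a => isAffineHom_π_app D c hc a
  have hmap : ∀ {a b : Over i₀} (f : a ⟶ b) (z : BY.D.obj a),
      BY.D.map f z ∈ GoodR D j₀ (D.map b.hom) → z ∈ GoodR D j₀ (D.map a.hom) := fun {a b} f z hz => by
    haveI : IsAffineHom (B.D.map f) := B.affine_map f
    haveI : Flat (B.D.map f) := hflat _ _ f.left
    exact regImmAt_baseChange (isPullback_map B j₀ f) z hz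
  constructor
  · intro H
    haveI : IsAffineHom BY.s := MorphismProperty.pullback_fst j₀ (c.π.app i₀) inferInstance
    haveI : CompactSpace BY.c.pt := QuasiCompact.compactSpace_of_compactSpace BY.s
    choose φ hφ using fun z => exists_goodR_stage D c hc hflat j₀ hcase z (H z)
    obtain ⟨t, ht⟩ := isCompact_univ.elim_finite_subcover
      (fun z : BY.c.pt => BY.c.π.app (φ z) ⁻¹' GoodR D j₀ (D.map (φ z).hom))
      (fun z => (isOpen_goodR D j₀ _).preimage (BY.c.π.app (φ z)).continuous)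
      (fun z _ => Set.mem_iUnion.2 ⟨z, by exact hφ z⟩)
    obtain ⟨k, hk⟩ := IsCofiltered.inf_objs_exists (insert (Over.mk (𝟙 i₀)) (t.image φ))
    let G : (BY.D.obj k).Opens := ⟨_, isOpen_goodR D j₀ (D.map k.hom)⟩
    haveI : CompactSpace (BY.D.obj k) := BY.compactSpace_obj k
    obtain ⟨l, a, hla⟩ := exists_map_preimage_le_map_preimage BY.D BY.c BY.hc (i := k)
      (U := ⊤) (V := G) isCompact_univ fun z _ => by
        obtain ⟨w, hwt, hw⟩ := Set.mem_iUnion₂.1 (ht (Set.mem_univ z))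
        obtain ⟨b⟩ := hk (Finset.mem_insert_of_mem (Finset.mem_image_of_mem φ hwt))
        refine hmap b _ ?_
        rw [← Scheme.Hom.comp_apply, BY.c.w b]
        exact hw
    exact ⟨l.left, l.hom, fun z => hmap a z (hla (show z ∈ BY.D.map a ⁻¹ᵁ ⊤ from trivial))⟩
  · rintro ⟨j, φ, H⟩ z
    haveI : Flat (B.c.π.app (Over.mk φ)) := RichLib.LimStalk.flat_π D c hc fun i ψ => hflat i j ψ
    haveI : IsAffineHom (B.c.π.app (Over.mk φ)) := inferInstanceAs (IsAffineHom (c.π.app j))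
    exact regImmAt_baseChange (isPullback_cone B j₀ (Over.mk φ)) z (H _)

end TransLimLib
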