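import Groth.Agent.TransLimLib.Immersion
import Mathlib

/-!
# Descent of transversally regular immersions to a stage
-/

set_option autoImplicit false
set_option backward.isDefEq.respectTransparency false
set_option linter.unusedSectionVars false
set_option linter.style.haveILetI false
set_option maxHeartbeats 1600000

universe u

open CategoryTheory CategoryTheory.Limits AlgebraicGeometry TopologicalSpace TensorProduct RichLib.LimBC

noncomputable section

namespace TransLimLib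

theorem exists_map_list {α β : Type*} (F : α → β) (L : List β) (h : ∀ b ∈ L, ∃ a, F a = b) :
    ∃ L' : List α, L'.map F = L := by
  induction L with
  | nil => exact ⟨[], rfl⟩
  | cons b L ih =>
    obtain ⟨a, rfl⟩ := h b (List.mem_cons_self ..)
    obtain ⟨L', rfl⟩ := ih fun x hx => h x (List.mem_cons_of_mem _ hx)
    exact ⟨a :: L', rfl⟩

theorem isClosedImmersion_restrict_of_le_coborder {Y X : Scheme.{u}} (i : Y ⟶ X) [IsImmersion i] {U : X.Opens}
    (hU : U ≤ i.coborderRange) : IsClosedImmersion (i ∣_ U) := by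
  haveI : IsClosedImmersion (i ⁻¹ᵁ i.coborderRange).ι := IsClosedImmersion.of_isPreimmersion _ (by
    have hr : Set.range (i ⁻¹ᵁ i.coborderRange).ι = Set.univ := by
      rw [Scheme.Opens.range_ι]
      exact Set.eq_univ_of_forall fun y => subset_coborder ⟨y, rfl⟩
    rw [hr]
    exact isClosed_univ)
  have hcl : IsClosedImmersion (i ∣_ i.coborderRange) := by
    have h : i ∣_ i.coborderRange = (i ⁻¹ᵁ i.coborderRange).ι ≫ i.liftCoborder := by
      rw [← cancel_mono i.coborderRange.ι, morphismRestrict_ι, Category.assoc, Scheme.Hom.liftCoborder_ι]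
    rw [h]
    infer_instance
  exact isClosedImmersion_restrict (mY := 𝟙 Y) (m := 𝟙 X) (IsPullback.of_horiz_isIso ⟨by simp⟩) hcl
    (hU.trans (by simp))

variable {I : Type u} [SmallCategory I] [IsCofiltered I] (D : I ⥤ Scheme.{u}) (c : Cone D) (hc : IsLimit c)
  [∀ (i j : I) (a : i ⟶ j), IsAffineHom (D.map a)]

include hc in
/-- An equality of finitely generated ideals on the limit holds at a stage. -/
theorem exists_map_eq_stage {i : I} {U : (D.obj i).Opens} (hU : IsAffineOpen U)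
    {J K : Ideal Γ(D.obj i, U)} (hJ : J.FG) (hK : K.FG)
    (h : J.map ((c.π.app i).appLE U (c.π.app i ⁻¹ᵁ U) le_rfl).hom =
      K.map ((c.π.app i).appLE U (c.π.app i ⁻¹ᵁ U) le_rfl).hom) :
    ∃ (j : I) (a : j ⟶ i), J.map ((D.map a).appLE U (D.map a ⁻¹ᵁ U) le_rfl).hom =
      K.map ((D.map a).appLE U (D.map a ⁻¹ᵁ U) le_rfl).hom := by
  obtain ⟨j, a, ha⟩ := exists_map_le_stage D c hc hU hJ h.le
  obtain ⟨k, b, hb⟩ := exists_map_le_stage D c hc hU hK h.ge
  obtain ⟨l, la, lb, hl⟩ := IsCofiltered.cospan a b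
  refine ⟨l, la ≫ a, le_antisymm ?_ ?_⟩
  · have h1 := Ideal.map_mono (f := ((D.map la).appLE (D.map a ⁻¹ᵁ U) (D.map (la ≫ a) ⁻¹ᵁ U)
      (RichLib.LimSec.le_preimage_map D U a la)).hom) ha
    simp only [Ideal.map_map, ← CommRingCat.hom_comp, Scheme.Hom.appLE_comp_appLE, ← Functor.map_comp] at h1
    exact h1
  · have h1 := Ideal.map_mono (f := ((D.map lb).appLE (D.map b ⁻¹ᵁ U) (D.map (la ≫ a) ⁻¹ᵁ U)
      (by rw [hl]; exact RichLib.LimSec.le_preimage_map D U b lb)).hom) hb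
    simp only [Ideal.map_map, ← CommRingCat.hom_comp, Scheme.Hom.appLE_comp_appLE, ← Functor.map_comp, ← hl] at h1
    exact h1

variable {X₀ Y₀ : Scheme.{u}} {i₀ : I} (g₀ : X₀ ⟶ D.obj i₀) (j₀ : Y₀ ⟶ X₀)

include hc in
theorem exists_good_stage [LocallyOfFinitePresentation g₀] [IsImmersion j₀] [LocallyOfFinitePresentation j₀]
    (z : ↥(pullback j₀ (pullback.fst g₀ (c.π.app i₀)))) (H : z ∈ Good D g₀ j₀ (c.π.app i₀)) :
    ∃ φ : Over i₀, pbπ (pb (ofStage D c hc i₀) g₀) j₀ φ z ∈ Good D g₀ j₀ (D.map φ.hom) := by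
  classical
  obtain ⟨U, V, e, hzU, hcl, rs, htr, hker⟩ := H
  let S₁ := ofStage D c hc i₀
  let B := pb S₁ g₀
  let BY := pb B j₀
  haveI : ∀ {a b : Over i₀} (f : a ⟶ b), IsAffineHom (B.D.map f) := fun f => B.affine_map f
  haveI : ∀ {a b : Over i₀} (f : a ⟶ b), IsAffineHom (BY.D.map f) := fun f => BY.affine_map f
  haveI : ∀ a, IsAffineHom (B.c.π.app a) := fun a => isAffineHom_π_app B.D B.c B.hc a
  let x : B.c.pt := immBC D g₀ j₀ (c.π.app i₀) z
  let x₀ : X₀ := pullback.fst g₀ (c.π.app i₀) x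
  have hx₀ : x₀ ∈ j₀.coborderRange := by
    refine subset_coborder ⟨pullback.fst j₀ (pullback.fst g₀ (c.π.app i₀)) z, ?_⟩
    show _ = pullback.fst g₀ (c.π.app i₀) (pullback.snd j₀ (pullback.fst g₀ (c.π.app i₀)) z)
    rw [← Scheme.Hom.comp_apply, ← Scheme.Hom.comp_apply, pullback.condition]
  obtain ⟨_, ⟨V₀, hV₀, rfl⟩, hxV₀, -⟩ :=
    (D.obj i₀).isBasis_affineOpens.exists_subset_of_mem_open (Set.mem_univ (g₀ x₀)) isOpen_univ
  obtain ⟨U₀, hU₀, hxU₀, hU₀le⟩ : ∃ U₀ : X₀.Opens, IsAffineOpen U₀ ∧ x₀ ∈ U₀ ∧ U₀ ≤ g₀ ⁻¹ᵁ V₀ ⊓ j₀.coborderRange :=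
    Opens.isBasis_iff_nbhd.mp X₀.isBasis_affineOpens (U := g₀ ⁻¹ᵁ V₀ ⊓ j₀.coborderRange) (x := x₀) ⟨hxV₀, hx₀⟩
  have hcl₀ := isClosedImmersion_restrict_of_le_coborder j₀ (hU₀le.trans inf_le_right)
  let φ₀ : Over i₀ := Over.mk (𝟙 i₀)
  haveI : IsAffineHom (B.t φ₀) := B.affine φ₀
  let U₁ : (B.D.obj φ₀).Opens := B.t φ₀ ⁻¹ᵁ U₀
  have hU₁ : IsAffineOpen U₁ := hU₀.preimage _
  have hxU₁ : x ∈ B.c.π.app φ₀ ⁻¹ᵁ U₁ := by
    show (B.c.π.app φ₀ ≫ B.t φ₀) x ∈ U₀
    rw [B.hs φ₀]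
    exact hxU₀
  obtain ⟨s, r, hsr, hxs⟩ :=
    exists_basicOpen_le_affine_inter (hU₁.preimage (B.c.π.app φ₀)) U.2 x ⟨hxU₁, hzU⟩
  obtain ⟨j, a, t, ht⟩ := RichLib.LimSec.exists_app_π_eq B.D B.c B.hc hU₁ s
  let D₁ : (B.D.obj j).Opens := (B.D.obj j).basicOpen t
  have hD₁ : IsAffineOpen D₁ := (hU₁.preimage (B.D.map a)).basicOpen t
  have hpre : B.c.π.app j ⁻¹ᵁ D₁ = B.c.pt.basicOpen s := by
    rw [← ht, Scheme.preimage_basicOpen, Scheme.Hom.appLE, CommRingCat.comp_apply]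
    refine Eq.trans (inf_eq_right.mpr ?_).symm (Scheme.basicOpen_res B.c.pt _ _).symm
    refine (Scheme.basicOpen_le _ _).trans ?_
    rw [← Scheme.Hom.comp_preimage, B.c.w a]
  have hD₁U : B.c.π.app j ⁻¹ᵁ D₁ ≤ U.1 := hpre.le.trans (le_of_eq_of_le hsr (Scheme.basicOpen_le _ _))
  obtain ⟨k, b, hkb⟩ := RichLib.LimSec.exists_app_π_eq_finset B.D B.c B.hc hD₁
    (rs.map fun y => B.c.pt.presheaf.map (homOfLE hD₁U).op y).toFinset
  let Uk : (B.D.obj k).Opens := B.D.map b ⁻¹ᵁ D₁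
  have hUk : IsAffineOpen Uk := hD₁.preimage _
  let E : B.c.pt.Opens := B.c.π.app k ⁻¹ᵁ Uk
  have hE : IsAffineOpen E := hUk.preimage _
  have hEeq : E = B.c.π.app j ⁻¹ᵁ D₁ := by
    show B.c.π.app k ⁻¹ᵁ (B.D.map b ⁻¹ᵁ D₁) = _
    rw [← Scheme.Hom.comp_preimage, B.c.w b]
  have hEU : E ≤ U.1 := hEeq ▸ hD₁U
  obtain ⟨rk, hrk⟩ := exists_map_list ((B.c.π.app k).appLE Uk E le_rfl).hom
    (rs.map (B.c.pt.presheaf.map (homOfLE hEU).op).hom) fun y hy => by
      obtain ⟨w, hw, rfl⟩ := List.mem_map.1 hy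
      obtain ⟨t', ht'⟩ := hkb (B.c.pt.presheaf.map (homOfLE hD₁U).op w)
        (List.mem_toFinset.2 (List.mem_map.2 ⟨w, hw, rfl⟩))
      refine ⟨t', (ConcreteCategory.congr_hom (Scheme.Hom.appLE_map (f := B.c.π.app k)
        (RichLib.LimSec.le_preimage B.D B.c D₁ b) (homOfLE hEeq.le).op) t').symm.trans
        ((congrArg (fun q => B.c.pt.presheaf.map (homOfLE hEeq.le).op q) ht').trans ?_)⟩
      exact (ConcreteCategory.congr_hom (B.c.pt.presheaf.map_comp (homOfLE hD₁U).op (homOfLE hEeq.le).op) w).symm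
  have hxE : x ∈ E := by rw [hEeq, hpre]; exact hxs
  -- the ideal at stage `k`
  have sqk : IsPullback (pullback.fst j₀ (B.t k)) (immBC D g₀ j₀ (D.map k.hom)) j₀ (B.t k) :=
    IsPullback.of_hasPullback _ _
  have hUk₀ : Uk ≤ B.t k ⁻¹ᵁ U₀ := by
    refine (Scheme.Hom.preimage_mono _ ((Scheme.basicOpen_le _ _).trans
      (le_of_eq (Scheme.Hom.comp_preimage _ _ _).symm))).trans ?_
    rw [← Scheme.Hom.comp_preimage, B.w a, B.w b]
  have hclk : IsClosedImmersion (immBC D g₀ j₀ (D.map k.hom) ∣_ Uk) :=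
    isClosedImmersion_restrict sqk hcl₀ hUk₀
  haveI : LocallyOfFinitePresentation (immBC D g₀ j₀ (D.map k.hom)) :=
    MorphismProperty.of_isPullback (P := @LocallyOfFinitePresentation) sqk inferInstance
  let Ik := RingHom.ker ((immBC D g₀ j₀ (D.map k.hom)).app Uk).hom
  have hlim : Ik.map ((B.c.π.app k).appLE Uk E le_rfl).hom =
      (Ideal.ofList rk).map ((B.c.π.app k).appLE Uk E le_rfl).hom := by
    have h1 := ker_app_baseChange (isPullback_cone B j₀ k) hUk hclk hE (le_rfl : E ≤ B.c.π.app k ⁻¹ᵁ Uk)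
    have h2 := ker_app_baseChange (mY := 𝟙 _) (m := 𝟙 (pullback g₀ (c.π.app i₀)))
      (i := immBC D g₀ j₀ (c.π.app i₀)) (i' := immBC D g₀ j₀ (c.π.app i₀))
      (IsPullback.of_horiz_isIso ⟨by simp⟩) U.2 hcl hE (hEU.trans (by simp))
    refine h1.symm.trans (h2.trans ?_)
    rw [hker, Ideal.map_ofList, Ideal.map_ofList, hrk]
    congr 2
  obtain ⟨l, d, hld⟩ := exists_map_eq_stage B.D B.c B.hc hUk (ker_app_fg hUk hclk) (ofList_fg rk) hlim
  let Ul : (B.D.obj l).Opens := B.D.map d ⁻¹ᵁ Uk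
  have hUl : IsAffineOpen Ul := hUk.preimage _
  let rl := rk.map ((B.D.map d).appLE Uk Ul le_rfl).hom
  have hkerl : RingHom.ker ((immBC D g₀ j₀ (D.map l.hom)).app Ul).hom = Ideal.ofList rl := by
    refine (ker_app_baseChange (isPullback_map B j₀ d) hUk hclk hUl le_rfl).trans (hld.trans ?_)
    rw [Ideal.map_ofList]
  -- transversal regularity at stage `l`
  let Vl : (D.obj l.left).Opens := D.map l.hom ⁻¹ᵁ V₀
  haveI : IsAffineHom (D.map l.hom) := inferInstance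
  have hVl : IsAffineOpen Vl := hV₀.preimage _
  have el : Ul ≤ pullback.snd g₀ (D.map l.hom) ⁻¹ᵁ Vl := by
    refine (Scheme.Hom.preimage_mono _ (hUk₀.trans (Scheme.Hom.preimage_mono _ (hU₀le.trans inf_le_left)))).trans ?_
    rw [← Scheme.Hom.comp_preimage, B.w d, ← Scheme.Hom.comp_preimage, ← Scheme.Hom.comp_preimage]
    exact le_of_eq (congrArg (fun f => f ⁻¹ᵁ V₀) pullback.condition)
  haveI : IsAffineHom (c.π.app l.left) :=
    haveI : ∀ {a b : I} (f : a ⟶ b), IsAffineHom (D.map f) := fun f => inferInstance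
    isAffineHom_π_app D c hc _
  have sql : IsPullback (B.c.π.app l) (pullback.snd g₀ (c.π.app i₀)) (pullback.snd g₀ (D.map l.hom))
      (c.π.app l.left) := isPullback_cone S₁ g₀ l
  have hEl : B.c.π.app l ⁻¹ᵁ Ul = E := by
    show B.c.π.app l ⁻¹ᵁ (B.D.map d ⁻¹ᵁ Uk) = _
    rw [← Scheme.Hom.comp_preimage, B.c.w d]
  have htrl : @RegImm.IsTransRegularSeq Γ(c.pt, c.π.app l.left ⁻¹ᵁ Vl)
      Γ(pullback g₀ (c.π.app i₀), B.c.π.app l ⁻¹ᵁ Ul) _ _
      ((pullback.snd g₀ (c.π.app i₀)).appLE (c.π.app l.left ⁻¹ᵁ Vl) (B.c.π.app l ⁻¹ᵁ Ul)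
        (le_preimage_sq sql.w el)).hom.toAlgebra
      (rl.map ((B.c.π.app l).appLE Ul (B.c.π.app l ⁻¹ᵁ Ul) le_rfl).hom) := by
    refine (tr_affine_iff' _ (hVl.preimage _) (hUl.preimage _) (le_preimage_sq sql.w el) _).2 fun y hy => ?_
    have hyE : y ∈ E := hEl ▸ hy
    have h1 := (tr_affine_iff' _ V.2 U.2 e rs).1 htr y (hEU hyE)
    refine (congrArg (TRL (pullback.snd g₀ (c.π.app i₀)) y) ?_).mpr h1
    have h2 : rs.map ((pullback g₀ (c.π.app i₀)).presheaf.germ U.1 y (hEU hyE)).hom =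
        (rk.map ((B.c.π.app k).appLE Uk E le_rfl).hom).map ((pullback g₀ (c.π.app i₀)).presheaf.germ E y hyE).hom := by
      rw [hrk, List.map_map]
      exact List.map_congr_left fun w _ =>
        ((pullback g₀ (c.π.app i₀)).presheaf.germ_res_apply (homOfLE hEU) y hyE w).symm
    rw [h2]
    simp only [rl, List.map_map]
    refine List.map_congr_left fun w _ => ?_
    show B.c.pt.presheaf.germ _ y hy ((((B.D.map d).appLE Uk Ul le_rfl) ≫
      (B.c.π.app l).appLE Ul (B.c.π.app l ⁻¹ᵁ Ul) le_rfl) w) = B.c.pt.presheaf.germ E y hyE _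
    rw [Scheme.Hom.appLE_comp_appLE]
    simp only [B.c.w d]
    rw [← B.c.pt.presheaf.germ_res_apply (homOfLE hEl.le) y hy]
    refine congrArg (B.c.pt.presheaf.germ (B.c.π.app l ⁻¹ᵁ Ul) y hy) ?_
    show _ = ((B.c.π.app k).appLE Uk E le_rfl ≫ B.c.pt.presheaf.map (homOfLE hEl.le).op) w
    exact (ConcreteCategory.congr_hom (Scheme.Hom.appLE_map (f := B.c.π.app k) _ _) w).symm
  letI : Algebra Γ(D.obj l.left, Vl) Γ(B.D.obj l, Ul) := ((pullback.snd g₀ (D.map l.hom)).appLE Vl Ul el).hom.toAlgebra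
  haveI : Algebra.FinitePresentation Γ(D.obj l.left, Vl) Γ(B.D.obj l, Ul) :=
    (pullback.snd g₀ (D.map l.hom)).finitePresentation_appLE hVl hUl el
  letI : Algebra Γ(D.obj l.left, Vl) Γ(((Functor.const I).obj c.pt).obj i₀, c.π.app l.left ⁻¹ᵁ Vl) :=
    ((c.π.app l.left).appLE Vl (c.π.app l.left ⁻¹ᵁ Vl) le_rfl).hom.toAlgebra
  obtain ⟨R, _, _, _, θ, hR⟩ := exists_fp_model rl ((tr_chart_iff' sql hVl hUl el rl).1 htrl)
  haveI : ∀ {a b : I} (f : a ⟶ b), IsAffineHom (D.map f) := fun f => inferInstance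
  obtain ⟨m, am, ⟨θ'⟩⟩ := exists_algHom_sections D c hc hVl R θ.toRingHom (RingHom.ext fun w => θ.commutes w)
  let l' : Over i₀ := Over.mk (am ≫ l.hom)
  let el' : l' ⟶ l := Over.homMk am
  refine ⟨l', ?_⟩
  have sqm : IsPullback (B.D.map el') (pullback.snd g₀ (D.map l'.hom)) (pullback.snd g₀ (D.map l.hom))
      (D.map am) := isPullback_map S₁ g₀ el'
  letI := ((D.map am).appLE Vl (D.map am ⁻¹ᵁ Vl) le_rfl).hom.toAlgebra
  have htrm := (tr_chart_iff' sqm hVl hUl el rl).2 (tr_map Γ(D.obj l.left, Vl) R _ θ' _ hR)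
  refine ⟨⟨B.D.map el' ⁻¹ᵁ Ul, hUl.preimage _⟩, ⟨D.map am ⁻¹ᵁ Vl, hVl.preimage _⟩, le_preimage_sq sqm.w el, ?_,
    ?_, _, htrm, ?_⟩
  · refine (congrArg (· ∈ B.D.map el' ⁻¹ᵁ Ul)
      (congrArg (fun f : pullback j₀ B.s ⟶ B.D.obj l' => f z) (pbπ_snd B j₀ l'))).mpr ?_
    show B.D.map el' (B.c.π.app l' x) ∈ Ul
    have h3 : B.c.π.app l x ∈ Ul := hEl.ge hxE
    exact (congrArg (fun f : B.c.pt ⟶ B.D.obj l => f x ∈ Ul) (B.c.w el')).mpr h3
  · exact isClosedImmersion_restrict (isPullback_map B j₀ el')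
      (isClosedImmersion_restrict (isPullback_map B j₀ d) hclk le_rfl) le_rfl
  · refine (ker_app_baseChange (isPullback_map B j₀ el') hUl
      (isClosedImmersion_restrict (isPullback_map B j₀ d) hclk le_rfl) (hUl.preimage _) le_rfl).trans ?_
    erw [hkerl]
    rw [Ideal.map_ofList]
    rfl

include hc in
/-- A transversally regular immersion on the limit is one at some stage, and conversely. -/
theorem forall_good_iff [CompactSpace Y₀] [LocallyOfFinitePresentation g₀] [IsImmersion j₀]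
    [LocallyOfFinitePresentation j₀] :
    (∀ z, z ∈ Good D g₀ j₀ (c.π.app i₀)) ↔ ∃ (j : I) (φ : j ⟶ i₀), ∀ z, z ∈ Good D g₀ j₀ (D.map φ) := by
  classical
  let S₁ := ofStage D c hc i₀
  let B := pb S₁ g₀
  let BY := pb B j₀
  haveI : ∀ {a b : Over i₀} (f : a ⟶ b), IsAffineHom (BY.D.map f) := fun f => BY.affine_map f
  haveI : ∀ {a b : I} (f : a ⟶ b), IsAffineHom (D.map f) := fun f => inferInstance
  haveI : ∀ a, IsAffineHom (c.π.app a) := fun a => isAffineHom_π_app D c hc a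
  have hmap : ∀ {a b : Over i₀} (f : a ⟶ b) (z : BY.D.obj a),
      BY.D.map f z ∈ Good D g₀ j₀ (D.map b.hom) → z ∈ Good D g₀ j₀ (D.map a.hom) := fun {a b} f z hz => by
    haveI : IsAffineHom (S₁.D.map f) := S₁.affine_map f
    exact transImmAt_baseChange (isPullback_map S₁ g₀ f) (isPullback_map B j₀ f) z hz
  have hπ : ∀ (a : Over i₀) (z : BY.c.pt), BY.c.π.app a z ∈ Good D g₀ j₀ (D.map a.hom) →
      z ∈ Good D g₀ j₀ (c.π.app i₀) := fun a z hz => by
    haveI : IsAffineHom (S₁.c.π.app a) := inferInstanceAs (IsAffineHom (c.π.app a.left))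
    exact transImmAt_baseChange (isPullback_cone S₁ g₀ a) (isPullback_cone B j₀ a) z hz
  constructor
  · intro H
    haveI : IsAffineHom BY.s := MorphismProperty.of_isPullback (P := @IsAffineHom)
      (IsPullback.of_hasPullback j₀ (pullback.fst g₀ (c.π.app i₀))).flip
      (MorphismProperty.pullback_fst g₀ (c.π.app i₀) inferInstance)
    haveI : CompactSpace BY.c.pt := QuasiCompact.compactSpace_of_compactSpace BY.s
    choose φ hφ using fun z => exists_good_stage D c hc g₀ j₀ z (H z)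
    obtain ⟨t, ht⟩ := isCompact_univ.elim_finite_subcover
      (fun z : BY.c.pt => BY.c.π.app (φ z) ⁻¹' Good D g₀ j₀ (D.map (φ z).hom))
      (fun z => (isOpen_good D g₀ j₀ _).preimage (BY.c.π.app (φ z)).continuous)
      (fun z _ => Set.mem_iUnion.2 ⟨z, by exact hφ z⟩)
    obtain ⟨k, hk⟩ := IsCofiltered.inf_objs_exists (insert (Over.mk (𝟙 i₀)) (t.image φ))
    let G : (BY.D.obj k).Opens := ⟨_, isOpen_good D g₀ j₀ (D.map k.hom)⟩
    haveI : CompactSpace (BY.D.obj k) := BY.compactSpace_obj k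
    obtain ⟨l, a, hla⟩ := exists_map_preimage_le_map_preimage BY.D BY.c BY.hc (i := k)
      (U := ⊤) (V := G) isCompact_univ fun z _ => by
        obtain ⟨w, hwt, hw⟩ := Set.mem_iUnion₂.1 (ht (Set.mem_univ z))
        obtain ⟨b⟩ := hk (Finset.mem_insert_of_mem (Finset.mem_image_of_mem φ hwt))
        refine hmap b _ ?_
        rw [← Scheme.Hom.comp_apply, BY.c.w b]
        exact hw
    exact ⟨l.left, l.hom, fun z => hmap a z (hla (show z ∈ BY.D.map a ⁻¹ᵁ ⊤ from trivial))⟩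
  · rintro ⟨j, φ, H⟩ z
    exact hπ (Over.mk φ) z (H _)

end TransLimLib
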