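import Groth.Agent.TransLimLib.Point
import Groth.Agent.RichLib.LimitSections
import Mathlib

/-!
# Transversal regularity of sections in limits of schemes
-/

set_option autoImplicit false
set_option backward.isDefEq.respectTransparency false
set_option linter.unusedSectionVars false
set_option linter.style.haveILetI false

universe u

open CategoryTheory CategoryTheory.Limits AlgebraicGeometry TopologicalSpace TensorProduct

noncomputable section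

namespace TransLimLib

variable {P P' T T' : Scheme.{u}} {m : P' ⟶ P} {f' : P' ⟶ T'} {f : P ⟶ T} {h : T' ⟶ T}

theorem le_preimage_sq (w : m ≫ f = f' ≫ h) {V : T.Opens} {U : P.Opens} (e : U ≤ f ⁻¹ᵁ V) :
    m ⁻¹ᵁ U ≤ f' ⁻¹ᵁ (h ⁻¹ᵁ V) := by
  rw [← Scheme.Hom.comp_preimage, ← w, Scheme.Hom.comp_preimage]
  exact Scheme.Hom.preimage_mono m e

theorem restr_preimage (fs : List Γ(P, ⊤)) (U : P.Opens) :
    (restr fs U).map (m.appLE U (m ⁻¹ᵁ U) le_rfl).hom = restr (fs.map m.appTop.hom) (m ⁻¹ᵁ U) := by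
  rw [restr, restr, List.map_map, List.map_map]
  refine List.map_congr_left fun s _ => ?_
  show (P.presheaf.map (homOfLE (le_top : U ≤ ⊤)).op ≫ m.appLE U (m ⁻¹ᵁ U) le_rfl) s =
    (m.app ⊤ ≫ P'.presheaf.map (homOfLE (le_top : m ⁻¹ᵁ U ≤ ⊤)).op) s
  rw [Scheme.Hom.map_appLE, Scheme.Hom.appLE]

/-- Over an affine pair, base change along an affine morphism is the tensor product; transversal regularity
upstairs is transversal regularity of the tensor product. -/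
theorem tr_chart_iff' (sq : IsPullback m f' f h) [IsAffineHom h] {V : T.Opens} (hV : IsAffineOpen V)
    {U : P.Opens} (hU : IsAffineOpen U) (e : U ≤ f ⁻¹ᵁ V) (rs : List Γ(P, U)) :
    letI := (f.appLE V U e).hom.toAlgebra
    letI := (h.appLE V (h ⁻¹ᵁ V) le_rfl).hom.toAlgebra
    @RegImm.IsTransRegularSeq Γ(T', h ⁻¹ᵁ V) Γ(P', m ⁻¹ᵁ U) _ _
        (f'.appLE (h ⁻¹ᵁ V) (m ⁻¹ᵁ U) (le_preimage_sq sq.w e)).hom.toAlgebra
        (rs.map (m.appLE U (m ⁻¹ᵁ U) le_rfl).hom) ↔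
      RegImm.IsTransRegularSeq Γ(T', h ⁻¹ᵁ V) (Γ(T', h ⁻¹ᵁ V) ⊗[Γ(T, V)] Γ(P, U))
        (rs.map (Algebra.TensorProduct.includeRight :
          Γ(P, U) →ₐ[Γ(T, V)] Γ(T', h ⁻¹ᵁ V) ⊗[Γ(T, V)] Γ(P, U))) := by
  haveI : IsAffineHom m := MorphismProperty.of_isPullback (P := @IsAffineHom) sq.flip inferInstance
  have hV' : IsAffineOpen (h ⁻¹ᵁ V) := hV.preimage h
  have hVU' := le_preimage_sq sq.w e
  letI : Algebra Γ(T, V) Γ(P, U) := (f.appLE V U e).hom.toAlgebra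
  letI : Algebra Γ(T, V) Γ(T', h ⁻¹ᵁ V) := (h.appLE V (h ⁻¹ᵁ V) le_rfl).hom.toAlgebra
  letI : Algebra Γ(P, U) Γ(P', m ⁻¹ᵁ U) := (m.appLE U (m ⁻¹ᵁ U) le_rfl).hom.toAlgebra
  letI : Algebra Γ(T', h ⁻¹ᵁ V) Γ(P', m ⁻¹ᵁ U) := (f'.appLE (h ⁻¹ᵁ V) (m ⁻¹ᵁ U) hVU').hom.toAlgebra
  letI : Algebra Γ(T, V) Γ(P', m ⁻¹ᵁ U) :=
    ((m.appLE U (m ⁻¹ᵁ U) le_rfl).hom.comp (f.appLE V U e).hom).toAlgebra
  haveI : IsScalarTower Γ(T, V) Γ(P, U) Γ(P', m ⁻¹ᵁ U) := IsScalarTower.of_algebraMap_eq fun _ => rfl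
  haveI : IsScalarTower Γ(T, V) Γ(T', h ⁻¹ᵁ V) Γ(P', m ⁻¹ᵁ U) := IsScalarTower.of_algebraMap_eq fun r => by
    show (f.appLE V U e ≫ m.appLE U (m ⁻¹ᵁ U) le_rfl) r =
      (h.appLE V (h ⁻¹ᵁ V) le_rfl ≫ f'.appLE (h ⁻¹ᵁ V) (m ⁻¹ᵁ U) hVU') r
    simp only [Scheme.Hom.appLE_comp_appLE, sq.w]
  haveI : Algebra.IsPushout Γ(T, V) Γ(T', h ⁻¹ᵁ V) Γ(P, U) Γ(P', m ⁻¹ᵁ U) := by
    have hUY : m ⁻¹ᵁ U = m ⁻¹ᵁ U ⊓ f' ⁻¹ᵁ (h ⁻¹ᵁ V) := (inf_eq_left.mpr hVU').symm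
    have hp := (isIso_pushoutSection_iff sq le_rfl e hUY).mp
      (isIso_pushoutSection_of_isAffineOpen sq le_rfl e hUY hV hV' hU)
    exact CommRingCat.isPushout_iff_isPushout.mp hp.flip
  let ψ := Algebra.IsPushout.equiv Γ(T, V) Γ(T', h ⁻¹ᵁ V) Γ(P, U) Γ(P', m ⁻¹ᵁ U)
  have hψ : rs.map (m.appLE U (m ⁻¹ᵁ U) le_rfl).hom =
      (rs.map (Algebra.TensorProduct.includeRight :
        Γ(P, U) →ₐ[Γ(T, V)] Γ(T', h ⁻¹ᵁ V) ⊗[Γ(T, V)] Γ(P, U))).map ψ := by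
    rw [List.map_map]
    refine List.map_congr_left fun b _ => ?_
    show _ = ψ ((1 : Γ(T', h ⁻¹ᵁ V)) ⊗ₜ[Γ(T, V)] _)
    rw [Algebra.IsPushout.equiv_tmul, map_one, one_mul]
    rfl
  refine ⟨fun H => tr_equiv ψ.symm _ _ ?_ H, fun H => tr_equiv ψ _ _ hψ H⟩
  rw [hψ, List.map_map, List.map_map]
  exact List.map_congr_left fun b _ => (ψ.symm_apply_apply _).symm

theorem tr_chart_iff (sq : IsPullback m f' f h) [IsAffineHom h] {V : T.Opens} (hV : IsAffineOpen V)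
    {U : P.Opens} (hU : IsAffineOpen U) (e : U ≤ f ⁻¹ᵁ V) (fs : List Γ(P, ⊤)) :
    letI := (f.appLE V U e).hom.toAlgebra
    letI := (h.appLE V (h ⁻¹ᵁ V) le_rfl).hom.toAlgebra
    @RegImm.IsTransRegularSeq Γ(T', h ⁻¹ᵁ V) Γ(P', m ⁻¹ᵁ U) _ _
        (f'.appLE (h ⁻¹ᵁ V) (m ⁻¹ᵁ U) (le_preimage_sq sq.w e)).hom.toAlgebra
        (restr (fs.map m.appTop.hom) (m ⁻¹ᵁ U)) ↔
      RegImm.IsTransRegularSeq Γ(T', h ⁻¹ᵁ V) (Γ(T', h ⁻¹ᵁ V) ⊗[Γ(T, V)] Γ(P, U))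
        ((restr fs U).map (Algebra.TensorProduct.includeRight :
          Γ(P, U) →ₐ[Γ(T, V)] Γ(T', h ⁻¹ᵁ V) ⊗[Γ(T, V)] Γ(P, U))) := by
  rw [← restr_preimage fs U]
  exact tr_chart_iff' sq hV hU e (restr fs U)

/-- Transversal regularity at all points is inherited by base change along affine morphisms. -/
theorem trAt_baseChange (sq : IsPullback m f' f h) [IsAffineHom h] (fs : List Γ(P, ⊤)) (x' : P')
    (H : ∃ U : P.Opens, m x' ∈ U ∧ ∀ x ∈ U, TRAt f fs x) : TRAt f' (fs.map m.appTop.hom) x' := by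
  haveI : IsAffineHom m := MorphismProperty.of_isPullback (P := @IsAffineHom) sq.flip inferInstance
  obtain ⟨U₀, hxU₀, hU₀⟩ := H
  obtain ⟨_, ⟨V, hV, rfl⟩, hxV, -⟩ :=
    T.isBasis_affineOpens.exists_subset_of_mem_open (Set.mem_univ (f (m x'))) isOpen_univ
  obtain ⟨U, hU, hxU, hUle⟩ : ∃ U : P.Opens, IsAffineOpen U ∧ m x' ∈ U ∧ U ≤ f ⁻¹ᵁ V ⊓ U₀ :=
    Opens.isBasis_iff_nbhd.mp P.isBasis_affineOpens (U := f ⁻¹ᵁ V ⊓ U₀) (x := m x') ⟨hxV, hxU₀⟩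
  have e : U ≤ f ⁻¹ᵁ V := hUle.trans inf_le_left
  letI := (f.appLE V U e).hom.toAlgebra
  letI := (h.appLE V (h ⁻¹ᵁ V) le_rfl).hom.toAlgebra
  have h1 := (tr_affine_iff f hV hU e fs).2 fun x hx => hU₀ x (hUle hx).2
  exact (tr_affine_iff f' (hV.preimage h) (hU.preimage m) (le_preimage_sq sq.w e) _).1
    ((tr_chart_iff sq hV hU e fs).2 (tr_tensor _ _ h1)) x' hxU

theorem trAt_baseChange' (sq : IsPullback m f' f h) [IsAffineHom h] (fs : List Γ(P, ⊤))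
    (H : ∀ x, TRAt f fs x) (x' : P') : TRAt f' (fs.map m.appTop.hom) x' :=
  trAt_baseChange sq fs x' ⟨⊤, trivial, fun x _ => H x⟩

section Limit

variable {I : Type u} [SmallCategory I] [IsCofiltered I] (D : I ⥤ Scheme.{u}) (c : Cone D)
  [∀ {i j : I} (a : i ⟶ j), IsAffineHom (D.map a)]

/-- An algebra of finite presentation mapping to the sections on the limit maps to those at a stage. -/
theorem exists_algHom_sections (hc : IsLimit c) {i : I} {V : (D.obj i).Opens} (hV : IsAffineOpen V)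
    (R : Type u) [CommRing R] [Algebra Γ(D.obj i, V) R] [Algebra.FinitePresentation Γ(D.obj i, V) R]
    (θ : R →+* Γ(c.pt, c.π.app i ⁻¹ᵁ V))
    (hθ : θ.comp (algebraMap Γ(D.obj i, V) R) = ((c.π.app i).appLE V (c.π.app i ⁻¹ᵁ V) le_rfl).hom) :
    ∃ (j : I) (a : j ⟶ i),
      letI := ((D.map a).appLE V (D.map a ⁻¹ᵁ V) le_rfl).hom.toAlgebra
      Nonempty (R →ₐ[Γ(D.obj i, V)] Γ(D.obj j, D.map a ⁻¹ᵁ V)) := by
  classical
  letI : Algebra Γ(D.obj i, V) Γ(c.pt, c.π.app i ⁻¹ᵁ V) := ((c.π.app i).appLE V (c.π.app i ⁻¹ᵁ V) le_rfl).hom.toAlgebra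
  let θa : R →ₐ[Γ(D.obj i, V)] Γ(c.pt, c.π.app i ⁻¹ᵁ V) := { θ with commutes' := fun r => RingHom.congr_fun hθ r }
  obtain ⟨n, π, hπ, hker⟩ := Algebra.FinitePresentation.out (R := Γ(D.obj i, V)) (A := R)
  obtain ⟨rels, hrels⟩ := hker
  obtain ⟨j, a, hja⟩ := RichLib.LimSec.exists_app_π_eq_finset D c hc hV
    (Finset.univ.image fun s : Fin n => θa (π (MvPolynomial.X s)))
  choose t ht using fun s : Fin n => hja _ (Finset.mem_image_of_mem _ (Finset.mem_univ s))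
  letI := ((D.map a).appLE V (D.map a ⁻¹ᵁ V) le_rfl).hom.toAlgebra
  let ψ : MvPolynomial (Fin n) Γ(D.obj i, V) →ₐ[Γ(D.obj i, V)] Γ(D.obj j, D.map a ⁻¹ᵁ V) := MvPolynomial.aeval t
  let ρ : Γ(D.obj j, D.map a ⁻¹ᵁ V) →ₐ[Γ(D.obj i, V)] Γ(c.pt, c.π.app i ⁻¹ᵁ V) :=
    { ((c.π.app j).appLE (D.map a ⁻¹ᵁ V) (c.π.app i ⁻¹ᵁ V) (RichLib.LimSec.le_preimage D c V a)).hom with
      commutes' := fun r => by
        show ((D.map a).appLE V (D.map a ⁻¹ᵁ V) le_rfl ≫ (c.π.app j).appLE _ _ _) r = _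
        rw [Scheme.Hom.appLE_comp_appLE]
        simp only [c.w]
        rfl }
  have hρψ : ρ.comp ψ = θa.comp π := MvPolynomial.algHom_ext fun s => by
    show ρ (MvPolynomial.aeval t (MvPolynomial.X s)) = _
    rw [MvPolynomial.aeval_X]
    exact ht s
  obtain ⟨k, b, hkill⟩ := RichLib.LimSec.exists_app_map_eq_zero_finset D c hc hV a
    (rels.image fun r => ψ r) fun y hy => by
    obtain ⟨r, hr, rfl⟩ := Finset.mem_image.1 hy
    show ρ (ψ r) = 0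
    rw [← AlgHom.comp_apply, hρψ, AlgHom.comp_apply, show π r = 0 from hrels.le (Ideal.subset_span hr), map_zero]
  refine ⟨k, b ≫ a, ?_⟩
  letI := ((D.map (b ≫ a)).appLE V (D.map (b ≫ a) ⁻¹ᵁ V) le_rfl).hom.toAlgebra
  let σ : Γ(D.obj j, D.map a ⁻¹ᵁ V) →ₐ[Γ(D.obj i, V)] Γ(D.obj k, D.map (b ≫ a) ⁻¹ᵁ V) :=
    { ((D.map b).appLE (D.map a ⁻¹ᵁ V) (D.map (b ≫ a) ⁻¹ᵁ V) (RichLib.LimSec.le_preimage_map D V a b)).hom with
      commutes' := fun r => by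
        show ((D.map a).appLE V (D.map a ⁻¹ᵁ V) le_rfl ≫ (D.map b).appLE _ _ _) r = _
        rw [Scheme.Hom.appLE_comp_appLE]
        simp only [← Functor.map_comp]
        rfl }
  have hle : RingHom.ker π ≤ RingHom.ker (σ.comp ψ) := fun x hx => by
    have hx' : x ∈ RingHom.ker π.toRingHom := hx
    rw [← hrels] at hx'
    exact (Ideal.span_le (I := RingHom.ker (σ.comp ψ))).mpr
      (fun r hr => RingHom.mem_ker.2 (hkill (ψ r) (Finset.mem_image_of_mem (fun r => ψ r) hr))) hx'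
  exact ⟨AlgHom.liftOfSurjective π hπ (σ.comp ψ) hle⟩

variable {X₀ : Scheme.{u}} {i₀ : I} (g₀ : X₀ ⟶ D.obj i₀)

/-- The projection between the base changes at two stages. -/
theorem isPullback_stage {Z : Scheme.{u}} {j : I} (φ : j ⟶ i₀) (p : Z ⟶ D.obj i₀) (q : Z ⟶ D.obj j)
    (w : q ≫ D.map φ = p) :
    IsPullback (pullback.lift (f := g₀) (g := D.map φ) (pullback.fst g₀ p) (pullback.snd g₀ p ≫ q)
        (by rw [pullback.condition, Category.assoc, w]))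
      (pullback.snd g₀ p) (pullback.snd g₀ (D.map φ)) q :=
  IsPullback.of_right (by
    rw [pullback.lift_fst, w]
    exact IsPullback.of_hasPullback _ _) (pullback.lift_snd _ _ _) (IsPullback.of_hasPullback _ _)

theorem trAt_of_stage {Z : Scheme.{u}} {j : I} (φ : j ⟶ i₀) (p : Z ⟶ D.obj i₀) (q : Z ⟶ D.obj j) [IsAffineHom q]
    (w : q ≫ D.map φ = p) (fs : List Γ(X₀, ⊤)) (x : ↥(pullback g₀ p))
    (H : ∃ U : (pullback g₀ (D.map φ)).Opens,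
      pullback.lift (f := g₀) (g := D.map φ) (pullback.fst g₀ p) (pullback.snd g₀ p ≫ q)
        (by rw [pullback.condition, Category.assoc, w]) x ∈ U ∧
      ∀ y ∈ U, TRAt (pullback.snd g₀ (D.map φ)) (fs.map (pullback.fst g₀ (D.map φ)).appTop.hom) y) :
    TRAt (pullback.snd g₀ p) (fs.map (pullback.fst g₀ p).appTop.hom) x := by
  have h1 := trAt_baseChange (isPullback_stage D g₀ φ p q w) _ x H
  rw [List.map_map] at h1
  convert h1 using 3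
  refine funext fun s => ?_
  rw [Function.comp_apply, ← CommRingCat.comp_apply, ← Scheme.Hom.comp_appTop, pullback.lift_fst]

theorem exists_trAt_chart (hc : IsLimit c) [LocallyOfFinitePresentation g₀] (fs : List Γ(X₀, ⊤))
    {V : (D.obj i₀).Opens} (hV : IsAffineOpen V) {U : X₀.Opens} (hU : IsAffineOpen U) (e : U ≤ g₀ ⁻¹ᵁ V)
    [IsAffineHom (c.π.app i₀)]
    (H : ∀ x, TRAt (pullback.snd g₀ (c.π.app i₀)) (fs.map (pullback.fst g₀ (c.π.app i₀)).appTop.hom) x) :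
    ∃ (j : I) (φ : j ⟶ i₀), ∀ x ∈ pullback.fst g₀ (D.map φ) ⁻¹ᵁ U,
      TRAt (pullback.snd g₀ (D.map φ)) (fs.map (pullback.fst g₀ (D.map φ)).appTop.hom) x := by
  letI := (g₀.appLE V U e).hom.toAlgebra
  haveI : Algebra.FinitePresentation Γ(D.obj i₀, V) Γ(X₀, U) := g₀.finitePresentation_appLE hV hU e
  letI := ((c.π.app i₀).appLE V (c.π.app i₀ ⁻¹ᵁ V) le_rfl).hom.toAlgebra
  have sq := IsPullback.of_hasPullback g₀ (c.π.app i₀)
  haveI : IsAffineHom (pullback.fst g₀ (c.π.app i₀)) :=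
    MorphismProperty.of_isPullback (P := @IsAffineHom) sq.flip inferInstance
  have h1 := (tr_chart_iff sq hV hU e fs).1
    ((tr_affine_iff _ (hV.preimage _) (hU.preimage _) (le_preimage_sq sq.w e) _).2 fun x _ => H x)
  obtain ⟨R, _, _, _, θ, hR⟩ := exists_fp_model (restr fs U) h1
  obtain ⟨j, φ, ⟨θ'⟩⟩ := exists_algHom_sections D c hc hV R θ.toRingHom (RingHom.ext fun r => θ.commutes r)
  refine ⟨j, φ, ?_⟩
  letI := ((D.map φ).appLE V (D.map φ ⁻¹ᵁ V) le_rfl).hom.toAlgebra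
  have sq' := IsPullback.of_hasPullback g₀ (D.map φ)
  haveI : IsAffineHom (pullback.fst g₀ (D.map φ)) :=
    MorphismProperty.of_isPullback (P := @IsAffineHom) sq'.flip inferInstance
  exact (tr_affine_iff _ (hV.preimage _) (hU.preimage _) (le_preimage_sq sq'.w e) _).1
    ((tr_chart_iff sq' hV hU e fs).2 (tr_map Γ(D.obj i₀, V) R _ θ' _ hR))

/-- Transversal regularity in the limit is transversal regularity at some stage. -/
theorem trAt_limit_iff (hc : IsLimit c) [CompactSpace X₀] [LocallyOfFinitePresentation g₀] (fs : List Γ(X₀, ⊤)) :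
    (∀ x, TRAt (pullback.snd g₀ (c.π.app i₀)) (fs.map (pullback.fst g₀ (c.π.app i₀)).appTop.hom) x) ↔
      ∃ (j : I) (φ : j ⟶ i₀), ∀ x,
        TRAt (pullback.snd g₀ (D.map φ)) (fs.map (pullback.fst g₀ (D.map φ)).appTop.hom) x := by
  classical
  haveI : ∀ i, IsAffineHom (c.π.app i) := fun i => isAffineHom_π_app D c hc i
  constructor
  · intro H
    have hcov : ∀ x : X₀, ∃ (U : X₀.Opens) (j : I) (φ : j ⟶ i₀), x ∈ U ∧
        ∀ y ∈ pullback.fst g₀ (D.map φ) ⁻¹ᵁ U,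
          TRAt (pullback.snd g₀ (D.map φ)) (fs.map (pullback.fst g₀ (D.map φ)).appTop.hom) y := by
      intro x
      obtain ⟨_, ⟨V, hV, rfl⟩, hxV, -⟩ :=
        (D.obj i₀).isBasis_affineOpens.exists_subset_of_mem_open (Set.mem_univ (g₀ x)) isOpen_univ
      obtain ⟨U, hU, hxU, hle⟩ : ∃ U : X₀.Opens, IsAffineOpen U ∧ x ∈ U ∧ U ≤ g₀ ⁻¹ᵁ V :=
        Opens.isBasis_iff_nbhd.mp X₀.isBasis_affineOpens (U := g₀ ⁻¹ᵁ V) (x := x) hxV
      obtain ⟨j, φ, hj⟩ := exists_trAt_chart D c g₀ hc fs hV hU hle H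
      exact ⟨U, j, φ, hxU, hj⟩
    choose U jx φx hxU hgood using hcov
    obtain ⟨t, ht⟩ := isCompact_univ.elim_finite_subcover (fun x => (U x : Set X₀)) (fun x => (U x).2)
      fun x _ => Set.mem_iUnion.2 ⟨x, hxU x⟩
    obtain ⟨k, hk⟩ := IsCofiltered.inf_objs_exists
      (insert (Over.mk (𝟙 i₀)) (t.image fun x => Over.mk (φx x)))
    refine ⟨k.left, k.hom, fun y => ?_⟩
    obtain ⟨x, hxt, hx⟩ := Set.mem_iUnion₂.1 (ht (Set.mem_univ (pullback.fst g₀ (D.map k.hom) y)))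
    obtain ⟨a⟩ := hk (Finset.mem_insert_of_mem (Finset.mem_image_of_mem _ hxt) :
      Over.mk (φx x) ∈ insert (Over.mk (𝟙 i₀)) (t.image fun x => Over.mk (φx x)))
    refine trAt_of_stage D g₀ (φx x) _ (D.map a.left) (by rw [← D.map_comp]; exact congrArg D.map (Over.w a)) fs y
      ⟨_, ?_, hgood x⟩
    show pullback.fst g₀ (D.map (φx x)) _ ∈ U x
    rw [← Scheme.Hom.comp_apply, pullback.lift_fst]
    exact hx
  · rintro ⟨j, φ, H⟩ x
    exact trAt_of_stage D g₀ φ _ (c.π.app j) (c.w φ) fs x ⟨⊤, trivial, fun y _ => H y⟩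

end Limit

/-- The statement on all affine pairs is the statement at all points. -/
theorem forall_affine_iff {Y S : Scheme.{u}} (q : Y ⟶ S) (fs : List Γ(Y, ⊤)) :
    (∀ (U : Y.affineOpens) (V : S.affineOpens) (e : U.1 ≤ q ⁻¹ᵁ V.1),
        @RegImm.IsTransRegularSeq Γ(S, V.1) Γ(Y, U.1) _ _ (q.appLE V.1 U.1 e).hom.toAlgebra (restr fs U.1)) ↔
      ∀ x, TRAt q fs x := by
  constructor
  · intro H x
    obtain ⟨_, ⟨V, hV, rfl⟩, hxV, -⟩ :=
      S.isBasis_affineOpens.exists_subset_of_mem_open (Set.mem_univ (q x)) isOpen_univ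
    obtain ⟨U, hU, hxU, hle⟩ : ∃ U : Y.Opens, IsAffineOpen U ∧ x ∈ U ∧ U ≤ q ⁻¹ᵁ V :=
      Opens.isBasis_iff_nbhd.mp Y.isBasis_affineOpens (U := q ⁻¹ᵁ V) (x := x) hxV
    exact (tr_affine_iff q hV hU hle fs).1 (H ⟨U, hU⟩ ⟨V, hV⟩ hle) x hxU
  · intro H U V e
    exact (tr_affine_iff q V.2 U.2 e fs).2 fun x _ => H x

end TransLimLib
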