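import Groth.Agent.TransLimLib.Scheme
import Groth.Agent.RichLib.LimitBaseChange
import Mathlib

/-!
# Transversally regular immersions in limits of schemes
-/

set_option autoImplicit false
set_option backward.isDefEq.respectTransparency false
set_option linter.unusedSectionVars false
set_option linter.style.haveILetI false

universe u

open CategoryTheory CategoryTheory.Limits AlgebraicGeometry TopologicalSpace TensorProduct

noncomputable section

namespace TransLimLib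

/-- The kernel of a surjection extends along a cocartesian square. -/
theorem ker_algebraMap_pushout (A A' B B' : Type u) [CommRing A] [CommRing A'] [CommRing B] [CommRing B']
    [Algebra A A'] [Algebra A B] [Algebra A' B'] [Algebra B B'] [Algebra A B'] [IsScalarTower A A' B']
    [IsScalarTower A B B'] [Algebra.IsPushout A A' B B'] (hs : Function.Surjective (algebraMap A B)) :
    RingHom.ker (algebraMap A' B') = (RingHom.ker (algebraMap A B)).map (algebraMap A A') := by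
  apply le_antisymm
  · intro a ha
    let e := Algebra.IsPushout.equiv A A' B B'
    have h0 : a ⊗ₜ[A] (1 : B) = 0 := e.injective (by
      rw [Algebra.IsPushout.equiv_tmul, map_zero, map_one, mul_one]; exact ha)
    have hmem : a ⊗ₜ[A] (1 : A) ∈ RingHom.ker (Algebra.TensorProduct.map (AlgHom.id A A') (Algebra.ofId A B)) :=
      RingHom.mem_ker.2 (by simpa using h0)
    rw [Algebra.TensorProduct.lTensor_ker _ hs] at hmem
    have h1 := Ideal.mem_map_of_mem (Algebra.TensorProduct.rid A A A').toRingEquiv.toRingHom hmem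
    rw [show (RingHom.ker (Algebra.ofId A B)).map (Algebra.TensorProduct.includeRight : A →ₐ[A] A' ⊗[A] A) =
      (RingHom.ker (algebraMap A B)).map (Algebra.TensorProduct.includeRight : A →ₐ[A] A' ⊗[A] A).toRingHom from rfl,
      Ideal.map_map] at h1
    have h2 : (Algebra.TensorProduct.rid A A A').toRingEquiv.toRingHom (a ⊗ₜ[A] (1 : A)) = a :=
      (Algebra.TensorProduct.rid_tmul (R := A) A (1 : A) a).trans (one_smul _ _)
    rw [h2] at h1
    convert h1 using 2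
    refine RingHom.ext fun r => ?_
    show algebraMap A A' r = Algebra.TensorProduct.rid A A A' ((1 : A') ⊗ₜ[A] r)
    rw [Algebra.TensorProduct.rid_tmul, Algebra.smul_def, mul_one]
  · rw [Ideal.map_le_iff_le_comap]
    intro r hr
    rw [Ideal.mem_comap, RingHom.mem_ker, ← IsScalarTower.algebraMap_apply, IsScalarTower.algebraMap_apply A B B',
      RingHom.mem_ker.1 hr, map_zero]

variable {Y X Y' X' : Scheme.{u}} {i : Y ⟶ X} {i' : Y' ⟶ X'} {mY : Y' ⟶ Y} {m : X' ⟶ X}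

theorem app_surjective {U : X.Opens} (hU : IsAffineOpen U) (hcl : IsClosedImmersion (i ∣_ U)) :
    IsAffineOpen (i ⁻¹ᵁ U) ∧ Function.Surjective (i.app U) := by
  haveI : IsAffine U.toScheme := hU
  haveI := hcl
  have hW : IsAffine (i ⁻¹ᵁ U).toScheme := isAffine_of_isAffineHom (i ∣_ U)
  refine ⟨hW, ?_⟩
  have h1 := (IsClosedImmersion.isAffine_surjective_of_isAffine (i ∣_ U)).2
  rw [morphismRestrict_appTop] at h1
  intro y
  obtain ⟨z, hz⟩ := h1 ((Y.presheaf.map (eqToHom (image_morphismRestrict_preimage i U ⊤)).op)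
    (Y.presheaf.map (eqToHom (show i ⁻¹ᵁ (U.ι ''ᵁ ⊤) = i ⁻¹ᵁ U by simp)).op y))
  refine ⟨X.presheaf.map (eqToHom (show U = U.ι ''ᵁ ⊤ by simp)).op z, ?_⟩
  rw [CommRingCat.comp_apply] at hz
  have h2 := ((ConcreteCategory.bijective_of_isIso
    (Y.presheaf.map (eqToHom (image_morphismRestrict_preimage i U ⊤)).op)).1 hz)
  have h3 : i.app U (X.presheaf.map (eqToHom (show U = U.ι ''ᵁ ⊤ by simp)).op z) =
      (Y.presheaf.map (eqToHom (show i ⁻¹ᵁ U = i ⁻¹ᵁ (U.ι ''ᵁ ⊤) by simp)).op) (i.app (U.ι ''ᵁ ⊤) z) := by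
    rw [← CommRingCat.comp_apply, ← CommRingCat.comp_apply, Scheme.Hom.naturality]
    rfl
  refine h3.trans ((congrArg _ h2).trans ?_)
  rw [← CommRingCat.comp_apply, ← Functor.map_comp]
  simp

theorem isClosedImmersion_restrict (sq : IsPullback mY i' i m) {U : X.Opens}
    (hcl : IsClosedImmersion (i ∣_ U)) {U' : X'.Opens} (hle : U' ≤ m ⁻¹ᵁ U) :
    IsClosedImmersion (i' ∣_ U') := by
  have h1 := ((isPullback_morphismRestrict i' U').flip.paste_horiz sq)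
  rw [← Scheme.Hom.resLE_comp_ι m hle] at h1
  have hWle : i' ⁻¹ᵁ U' ≤ mY ⁻¹ᵁ (i ⁻¹ᵁ U) := by
    rw [← Scheme.Hom.comp_preimage, sq.w, Scheme.Hom.comp_preimage]
    exact Scheme.Hom.preimage_mono i' hle
  rw [← Scheme.Hom.resLE_comp_ι mY hWle] at h1
  have hw : mY.resLE (i ⁻¹ᵁ U) (i' ⁻¹ᵁ U') hWle ≫ (i ∣_ U) = (i' ∣_ U') ≫ m.resLE U U' hle := by
    rw [← cancel_mono U.ι, Category.assoc, morphismRestrict_ι, Category.assoc, Scheme.Hom.resLE_comp_ι,
      Scheme.Hom.resLE_comp_ι_assoc, morphismRestrict_ι_assoc, sq.w]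
  exact MorphismProperty.of_isPullback (P := @IsClosedImmersion)
    (IsPullback.of_right h1 hw (isPullback_morphismRestrict i U).flip) hcl

/-- The ideal of an immersion on an affine open extends to the ideal of its base change. -/
theorem ker_app_baseChange (sq : IsPullback mY i' i m) {U : X.Opens} (hU : IsAffineOpen U)
    (hcl : IsClosedImmersion (i ∣_ U)) {U' : X'.Opens} (hU' : IsAffineOpen U') (hle : U' ≤ m ⁻¹ᵁ U) :
    RingHom.ker (i'.app U').hom = (RingHom.ker (i.app U).hom).map (m.appLE U U' hle).hom := by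
  obtain ⟨hW, hsurj⟩ := app_surjective hU hcl
  have hWle : i' ⁻¹ᵁ U' ≤ mY ⁻¹ᵁ (i ⁻¹ᵁ U) := by
    rw [← Scheme.Hom.comp_preimage, sq.w, Scheme.Hom.comp_preimage]
    exact Scheme.Hom.preimage_mono i' hle
  letI : Algebra Γ(X, U) Γ(X', U') := (m.appLE U U' hle).hom.toAlgebra
  letI : Algebra Γ(X, U) Γ(Y, i ⁻¹ᵁ U) := (i.app U).hom.toAlgebra
  letI : Algebra Γ(Y, i ⁻¹ᵁ U) Γ(Y', i' ⁻¹ᵁ U') := (mY.appLE (i ⁻¹ᵁ U) (i' ⁻¹ᵁ U') hWle).hom.toAlgebra
  letI : Algebra Γ(X', U') Γ(Y', i' ⁻¹ᵁ U') := (i'.app U').hom.toAlgebra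
  letI : Algebra Γ(X, U) Γ(Y', i' ⁻¹ᵁ U') :=
    ((mY.appLE (i ⁻¹ᵁ U) (i' ⁻¹ᵁ U') hWle).hom.comp (i.app U).hom).toAlgebra
  haveI : IsScalarTower Γ(X, U) Γ(Y, i ⁻¹ᵁ U) Γ(Y', i' ⁻¹ᵁ U') := IsScalarTower.of_algebraMap_eq fun _ => rfl
  haveI : IsScalarTower Γ(X, U) Γ(X', U') Γ(Y', i' ⁻¹ᵁ U') := IsScalarTower.of_algebraMap_eq fun r => by
    show (i.app U ≫ mY.appLE (i ⁻¹ᵁ U) (i' ⁻¹ᵁ U') hWle) r = (m.appLE U U' hle ≫ i'.app U') r
    simp only [Scheme.Hom.app_eq_appLE, Scheme.Hom.appLE_comp_appLE, sq.w]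
  haveI : Algebra.IsPushout Γ(X, U) Γ(X', U') Γ(Y, i ⁻¹ᵁ U) Γ(Y', i' ⁻¹ᵁ U') := by
    have hUY : i' ⁻¹ᵁ U' = mY ⁻¹ᵁ (i ⁻¹ᵁ U) ⊓ i' ⁻¹ᵁ U' := (inf_eq_right.mpr hWle).symm
    have hp := (isIso_pushoutSection_iff sq hle le_rfl hUY).mp
      (isIso_pushoutSection_of_isAffineOpen sq hle le_rfl hUY hU hU' hW)
    refine CommRingCat.isPushout_iff_isPushout.mp ?_
    simp only [← Scheme.Hom.app_eq_appLE] at hp
    exact hp.flip
  exact ker_algebraMap_pushout Γ(X, U) Γ(X', U') Γ(Y, i ⁻¹ᵁ U) Γ(Y', i' ⁻¹ᵁ U') hsurj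

theorem ker_app_fg [LocallyOfFinitePresentation i] {U : X.Opens} (hU : IsAffineOpen U)
    (hcl : IsClosedImmersion (i ∣_ U)) : (RingHom.ker (i.app U).hom).FG := by
  obtain ⟨hW, hsurj⟩ := app_surjective hU hcl
  have h := i.finitePresentation_appLE hU hW le_rfl
  rw [← Scheme.Hom.app_eq_appLE] at h
  letI := (i.app U).hom.toAlgebra
  haveI : Algebra.FinitePresentation Γ(X, U) Γ(Y, i ⁻¹ᵁ U) := h
  exact Algebra.FinitePresentation.ker_fG_of_surjective (Algebra.ofId Γ(X, U) Γ(Y, i ⁻¹ᵁ U)) hsurj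

section Limit

variable {I : Type u} [SmallCategory I] [IsCofiltered I] (D : I ⥤ Scheme.{u}) (c : Cone D)
  [∀ {i j : I} (a : i ⟶ j), IsAffineHom (D.map a)]

/-- An inclusion of finitely generated ideals on the limit holds at a stage. -/
theorem exists_map_le_stage (hc : IsLimit c) {i : I} {U : (D.obj i).Opens} (hU : IsAffineOpen U)
    {J K : Ideal Γ(D.obj i, U)} (hK : K.FG)
    (h : K.map ((c.π.app i).appLE U (c.π.app i ⁻¹ᵁ U) le_rfl).hom ≤
      J.map ((c.π.app i).appLE U (c.π.app i ⁻¹ᵁ U) le_rfl).hom) :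
    ∃ (j : I) (a : j ⟶ i), K.map ((D.map a).appLE U (D.map a ⁻¹ᵁ U) le_rfl).hom ≤
      J.map ((D.map a).appLE U (D.map a ⁻¹ᵁ U) le_rfl).hom := by
  classical
  let π : Γ(D.obj i, U) →+* Γ(c.pt, c.π.app i ⁻¹ᵁ U) := ((c.π.app i).appLE U (c.π.app i ⁻¹ᵁ U) le_rfl).hom
  obtain ⟨S, rfl⟩ := hK
  have hmem : ∀ s : S, ∃ (n : ℕ) (co : Fin n → Γ(c.pt, c.π.app i ⁻¹ᵁ U)) (g : Fin n → J),
      π s = ∑ t, co t * π (g t) := fun s => by
    have h1 : π s ∈ Ideal.span (π '' (J : Set Γ(D.obj i, U))) :=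
      h (Ideal.mem_map_of_mem _ (Submodule.subset_span s.2))
    obtain ⟨n, co, g, hg⟩ := (Submodule.mem_span_set' (R := Γ(c.pt, c.π.app i ⁻¹ᵁ U))).1 h1
    choose w hw hw' using fun t => (g t).2
    refine ⟨n, co, fun t => ⟨w t, hw t⟩, hg.symm.trans (Finset.sum_congr rfl fun t _ => ?_)⟩
    rw [smul_eq_mul, hw']
  choose n co g hg using hmem
  obtain ⟨j, a, hja⟩ := RichLib.LimSec.exists_app_π_eq_finset D c hc hU
    (Finset.univ.biUnion fun s => Finset.univ.image (co s))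
  choose d hd using fun (s : S) (t : Fin (n s)) => hja (co s t)
    (Finset.mem_biUnion.2 ⟨s, Finset.mem_univ s, Finset.mem_image_of_mem _ (Finset.mem_univ t)⟩)
  let ρa := ((D.map a).appLE U (D.map a ⁻¹ᵁ U) le_rfl).hom
  let ρ := ((c.π.app j).appLE (D.map a ⁻¹ᵁ U) (c.π.app i ⁻¹ᵁ U) (RichLib.LimSec.le_preimage D c U a)).hom
  have hρ : ∀ x, ρ (ρa x) = π x := fun x => by
    show ((D.map a).appLE U (D.map a ⁻¹ᵁ U) le_rfl ≫ (c.π.app j).appLE _ _ _) x = _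
    rw [Scheme.Hom.appLE_comp_appLE]
    simp only [c.w]
    rfl
  let δ : S → Γ(D.obj j, D.map a ⁻¹ᵁ U) := fun s => ρa s - ∑ t, d s t * ρa (g s t)
  obtain ⟨k, b, hk⟩ := RichLib.LimSec.exists_app_map_eq_zero_finset D c hc hU a (Finset.univ.image δ) fun y hy => by
    obtain ⟨s, -, rfl⟩ := Finset.mem_image.1 hy
    show ρ (δ s) = 0
    simp only [δ, map_sub, map_sum, map_mul, hρ, sub_eq_zero]
    rw [hg s]
    exact Finset.sum_congr rfl fun t _ => congrArg (· * _) (hd s t).symm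
  refine ⟨k, b ≫ a, ?_⟩
  rw [Ideal.map_le_iff_le_comap, Submodule.span_le]
  intro s hs
  let σ := ((D.map b).appLE (D.map a ⁻¹ᵁ U) (D.map (b ≫ a) ⁻¹ᵁ U) (RichLib.LimSec.le_preimage_map D U a b)).hom
  have hσ : ∀ x, σ (ρa x) = ((D.map (b ≫ a)).appLE U (D.map (b ≫ a) ⁻¹ᵁ U) le_rfl).hom x := fun x => by
    show ((D.map a).appLE U (D.map a ⁻¹ᵁ U) le_rfl ≫ (D.map b).appLE _ _ _) x = _
    rw [Scheme.Hom.appLE_comp_appLE]
    simp only [← Functor.map_comp]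
  have h0 : σ (δ ⟨s, hs⟩) = 0 := hk _ (Finset.mem_image_of_mem δ (Finset.mem_univ _))
  simp only [δ, map_sub, map_sum, map_mul, sub_eq_zero, hσ] at h0
  rw [SetLike.mem_coe, Ideal.mem_comap, h0]
  exact sum_mem fun t _ => Ideal.mul_mem_left _ _ (Ideal.mem_map_of_mem _ (g _ t).2)

variable {X₀ Y₀ : Scheme.{u}} {i₀ : I} (g₀ : X₀ ⟶ D.obj i₀) (j₀ : Y₀ ⟶ X₀)

/-- the base change of the immersion -/
abbrev immBC {Z : Scheme.{u}} (p : Z ⟶ D.obj i₀) : pullback j₀ (pullback.fst g₀ p) ⟶ pullback g₀ p :=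
  pullback.snd j₀ (pullback.fst g₀ p)

/-- The points at which the base change to `Z` is a transversally regular immersion. -/
def Good {Z : Scheme.{u}} (p : Z ⟶ D.obj i₀) : Set ↥(pullback j₀ (pullback.fst g₀ p)) :=
  {z | RegImm.IsTransRegularImmersionAt (pullback.snd g₀ p) (immBC D g₀ j₀ p) z}

theorem isOpen_good {Z : Scheme.{u}} (p : Z ⟶ D.obj i₀) : IsOpen (Good D g₀ j₀ p) := by
  rw [isOpen_iff_forall_mem_open]
  rintro z ⟨U, V, e, hzU, hcl, rs, htr, hker⟩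
  exact ⟨immBC D g₀ j₀ p ⁻¹ᵁ U.1, fun y hy => ⟨U, V, e, hy, hcl, rs, htr, hker⟩, (immBC D g₀ j₀ p ⁻¹ᵁ U.1).2, hzU⟩

/-- Transversally regular immersions base change. -/
theorem transImmAt_baseChange {S S' : Scheme.{u}} {f : X ⟶ S} {f' : X' ⟶ S'} {h : S' ⟶ S}
    (sqf : IsPullback m f' f h) [IsAffineHom h] (sq : IsPullback mY i' i m) (z : Y')
    (H : RegImm.IsTransRegularImmersionAt f i (mY z)) : RegImm.IsTransRegularImmersionAt f' i' z := by
  obtain ⟨U, V, e, hzU, hcl, rs, htr, hker⟩ := H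
  haveI : IsAffineHom m := MorphismProperty.of_isPullback (P := @IsAffineHom) sqf.flip inferInstance
  refine ⟨⟨m ⁻¹ᵁ U.1, U.2.preimage m⟩, ⟨h ⁻¹ᵁ V.1, V.2.preimage h⟩, le_preimage_sq sqf.w e, ?_,
    isClosedImmersion_restrict sq hcl le_rfl, rs.map (m.appLE U.1 (m ⁻¹ᵁ U.1) le_rfl).hom, ?_, ?_⟩
  · show m (i' z) ∈ U.1
    rwa [← Scheme.Hom.comp_apply, ← sq.w, Scheme.Hom.comp_apply]
  · letI := (f.appLE V.1 U.1 e).hom.toAlgebra
    letI := (h.appLE V.1 (h ⁻¹ᵁ V.1) le_rfl).hom.toAlgebra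
    exact (tr_chart_iff' sqf V.2 U.2 e rs).2 (tr_tensor _ _ htr)
  · rw [ker_app_baseChange sq U.2 hcl (U.2.preimage m) le_rfl, hker, Ideal.map_ofList]

theorem isPullback_imm {Z : Scheme.{u}} {j : I} (φ : j ⟶ i₀) (p : Z ⟶ D.obj i₀) (μ : pullback g₀ p ⟶ pullback g₀ (D.map φ))
    (hμ : μ ≫ pullback.fst g₀ (D.map φ) = pullback.fst g₀ p)
    (ν : pullback j₀ (pullback.fst g₀ p) ⟶ pullback j₀ (pullback.fst g₀ (D.map φ)))
    (hν₁ : ν ≫ pullback.fst _ _ = pullback.fst _ _) (hν₂ : ν ≫ pullback.snd _ _ = pullback.snd _ _ ≫ μ) :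
    IsPullback ν (immBC D g₀ j₀ p) (immBC D g₀ j₀ (D.map φ)) μ :=
  IsPullback.of_right (by
    rw [hν₁, hμ]
    exact IsPullback.of_hasPullback _ _) hν₂ (IsPullback.of_hasPullback _ _)

end Limit

end TransLimLib
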