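import Groth.Agent.TransLimLib.Ring
import Groth.Agent.FlatLib.Local

/-!
# Transversal regularity of global sections at a point
-/

set_option autoImplicit false
set_option backward.isDefEq.respectTransparency false
set_option linter.unusedSectionVars false
set_option linter.style.haveILetI false

universe u

open CategoryTheory AlgebraicGeometry RingTheory.Sequence TopologicalSpace

noncomputable section

namespace TransLimLib

section Ring

variable (A : Type u) {B : Type u} [CommRing A] [CommRing B] [Algebra A B] (M : Submonoid B)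
  (B' : Type u) [CommRing B'] [Algebra B B'] [IsLocalization M B'] [Algebra A B'] [IsScalarTower A B B']

/-- The map between quotients by an ideal and by its extension. -/
def quotLoc (J : Ideal B) : (B ⧸ J) →ₗ[B] B' ⧸ J.map (algebraMap B B') :=
  J.liftQ ((Ideal.Quotient.mkₐ B (J.map (algebraMap B B'))).toLinearMap ∘ₗ Algebra.linearMap B B') fun _ hx =>
    Ideal.Quotient.eq_zero_iff_mem.2 (Ideal.mem_map_of_mem _ hx)

theorem isLocalizedModule_quotLoc (J : Ideal B) : IsLocalizedModule M (quotLoc B' J) where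
  map_units s := by
    have h := (IsLocalization.map_units B' s).map
      (Algebra.lsmul B B (B' ⧸ J.map (algebraMap B B')) : B' →ₐ[B] Module.End B _)
    convert h using 1
    exact LinearMap.ext fun y => (algebraMap_smul B' (s : B) y).symm
  surj y := by
    obtain ⟨z, rfl⟩ := Ideal.Quotient.mk_surjective y
    obtain ⟨⟨b, s⟩, h⟩ := IsLocalization.surj M z
    refine ⟨(Ideal.Quotient.mk J b, s), ?_⟩
    show (s : B) • Ideal.Quotient.mk (J.map (algebraMap B B')) z =
      Ideal.Quotient.mk (J.map (algebraMap B B')) (algebraMap B B' b)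
    rw [← h, mul_comm z, ← Algebra.smul_def]
    rfl
  exists_of_eq {x₁ x₂} h := by
    obtain ⟨b₁, rfl⟩ := Ideal.Quotient.mk_surjective x₁
    obtain ⟨b₂, rfl⟩ := Ideal.Quotient.mk_surjective x₂
    have h' : algebraMap B B' (b₁ - b₂) ∈ J.map (algebraMap B B') := by
      rw [map_sub]; exact Ideal.Quotient.eq.1 h
    rw [← IsLocalization.mk'_one (M := M), IsLocalization.mk'_mem_map_algebraMap_iff] at h'
    obtain ⟨s, hs, hsJ⟩ := h'
    refine ⟨⟨s, hs⟩, ?_⟩
    show Ideal.Quotient.mk J (s * b₁) = Ideal.Quotient.mk J (s * b₂)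
    rw [Ideal.Quotient.eq, ← mul_sub]
    exact hsJ

include M in
theorem step_localization {J : Ideal B} {f : B} (h : Step J f) :
    Step (J.map (algebraMap B B')) (algebraMap B B' f) := by
  intro z hz
  obtain ⟨b, s, rfl⟩ := IsLocalization.exists_mk'_eq M z
  rw [IsLocalization.mul_mk'_eq_mk'_of_mul, IsLocalization.mk'_mem_map_algebraMap_iff] at hz
  obtain ⟨t, ht, htJ⟩ := hz
  rw [IsLocalization.mk'_mem_map_algebraMap_iff]
  exact ⟨t, ht, h _ (by rw [mul_left_comm]; exact htJ)⟩

include M in
/-- Transversally regular sequences stay so in localisations. -/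
theorem tr_localization (rs : List B) (h : RegImm.IsTransRegularSeq A B rs) :
    RegImm.IsTransRegularSeq A B' (rs.map (algebraMap B B')) := by
  refine ⟨(isWeaklyRegular_iff _).2 fun i hi => ?_, fun j hj => ?_⟩
  · rw [ofList_map_take, List.getElem_map]
    rw [List.length_map] at hi
    exact step_localization M B' ((isWeaklyRegular_iff rs).1 h.1 i hi)
  · rw [List.length_map] at hj
    haveI := h.2 j hj
    haveI := isLocalizedModule_quotLoc M B' (Ideal.ofList (rs.take j))
    have h' : Module.Flat A (B' ⧸ (Ideal.ofList (rs.take j)).map (algebraMap B B')) :=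
      FlatLib.flat_localized (R := A) M (quotLoc B' (Ideal.ofList (rs.take j)))
    rwa [← ofList_map_take] at h'

omit M in
/-- Transversal regularity may be checked at the maximal ideals. -/
theorem tr_of_maximal (Bm : ∀ (P : Ideal B) [P.IsMaximal], Type u) [∀ (P : Ideal B) [P.IsMaximal], CommRing (Bm P)]
    [∀ (P : Ideal B) [P.IsMaximal], Algebra B (Bm P)]
    [∀ (P : Ideal B) [P.IsMaximal], IsLocalization.AtPrime (Bm P) P]
    [∀ (P : Ideal B) [P.IsMaximal], Algebra A (Bm P)]
    [∀ (P : Ideal B) [P.IsMaximal], IsScalarTower A B (Bm P)] (rs : List B)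
    (h : ∀ (P : Ideal B) [P.IsMaximal], RegImm.IsTransRegularSeq A (Bm P) (rs.map (algebraMap B (Bm P)))) :
    RegImm.IsTransRegularSeq A B rs := by
  refine ⟨(isWeaklyRegular_iff _).2 fun i hi x hx => ?_, fun j hj => ?_⟩
  · refine Submodule.mem_of_localization_maximal Bm (fun P _ => Algebra.linearMap B (Bm P)) x
      (Ideal.ofList (rs.take i)) fun P hP => ?_
    rw [Ideal.localized₀_eq_restrictScalars_map, Submodule.restrictScalars_mem]
    have h1 := (isWeaklyRegular_iff _).1 (h P).1 i (by rw [List.length_map]; exact hi) (algebraMap B (Bm P) x)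
    rw [ofList_map_take, List.getElem_map, ← map_mul] at h1
    exact h1 (Ideal.mem_map_of_mem _ hx)
  · haveI : ∀ (P : Ideal B) [P.IsMaximal],
        IsLocalizedModule.AtPrime P (quotLoc (Bm P) (Ideal.ofList (rs.take j))) :=
      fun P _ => isLocalizedModule_quotLoc P.primeCompl (Bm P) _
    refine Module.flat_of_isLocalized_maximal (R := A) (S := B) (B ⧸ Ideal.ofList (rs.take j))
      (fun P => Bm P ⧸ (Ideal.ofList (rs.take j)).map (algebraMap B (Bm P)))
      (fun P => quotLoc (Bm P) (Ideal.ofList (rs.take j))) fun P hP => ?_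
    have h1 := (h P).2 j (by rw [List.length_map]; exact hj)
    rwa [ofList_map_take] at h1

omit M B' in
/-- The base may be replaced by a localisation through which the algebra factors. -/
theorem tr_base_localization {A' C : Type u} [CommRing A'] [CommRing C] [Algebra A A'] [Algebra A' C] [Algebra A C]
    [IsScalarTower A A' C] (p : Submonoid A) [IsLocalization p A'] (rs : List C) :
    RegImm.IsTransRegularSeq A' C rs ↔ RegImm.IsTransRegularSeq A C rs := by
  refine and_congr_right fun _ => forall_congr' fun j => forall_congr' fun _ => ?_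
  exact Module.flat_iff_of_isLocalization A' p (M := C ⧸ Ideal.ofList (rs.take j))

end Ring

variable {S X : Scheme.{u}} (f : X ⟶ S)

/-- The germs of global sections at a point. -/
def germs (fs : List Γ(X, ⊤)) (x : X) : List (X.presheaf.stalk x) :=
  fs.map (X.presheaf.germ ⊤ x trivial).hom

/-- Global sections form a transversally regular sequence at a point. -/
def TRAt (fs : List Γ(X, ⊤)) (x : X) : Prop :=
  @RegImm.IsTransRegularSeq (S.presheaf.stalk (f x)) (X.presheaf.stalk x) _ _ (f.stalkMap x).hom.toAlgebra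
    (germs fs x)

/-- The restrictions of global sections to an open. -/
abbrev restr (fs : List Γ(X, ⊤)) (U : X.Opens) : List Γ(X, U) :=
  fs.map fun s => (X.presheaf.map (homOfLE (le_top : U ≤ ⊤)).op).hom s

theorem germ_restr (fs : List Γ(X, ⊤)) (U : X.Opens) (x : X) (hx : x ∈ U) :
    (restr fs U).map (X.presheaf.germ U x hx).hom = germs fs x := by
  rw [restr, germs, List.map_map]
  exact List.map_congr_left fun s _ => X.presheaf.germ_res_apply _ x hx s

/-- A list of germs forms a transversally regular sequence at a point. -/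
def TRL (x : X) (l : List (X.presheaf.stalk x)) : Prop :=
  @RegImm.IsTransRegularSeq (S.presheaf.stalk (f x)) (X.presheaf.stalk x) _ _ (f.stalkMap x).hom.toAlgebra l

/-- At a point of an affine pair the germs may be read over the sections of the base. -/
theorem trL_iff {V : S.Opens} (hV : IsAffineOpen V) {U : X.Opens} (e : U ≤ f ⁻¹ᵁ V)
    {x : X} (hx : x ∈ U) (l : List (X.presheaf.stalk x)) :
    TRL f x l ↔ @RegImm.IsTransRegularSeq Γ(S, V) (X.presheaf.stalk x) _ _
      (((X.presheaf.germ U x hx).hom.comp (f.appLE V U e).hom).toAlgebra) l := by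
  letI := (f.stalkMap x).hom.toAlgebra
  letI := TopCat.Presheaf.algebra_section_stalk S.presheaf (⟨f x, e hx⟩ : V)
  letI := ((X.presheaf.germ U x hx).hom.comp (f.appLE V U e).hom).toAlgebra
  haveI : IsScalarTower Γ(S, V) (S.presheaf.stalk (f x)) (X.presheaf.stalk x) :=
    IsScalarTower.of_algebraMap_eq fun r => by
      show X.presheaf.germ U x hx (f.appLE V U e r) = f.stalkMap x (S.presheaf.germ V (f x) (e hx) r)
      rw [Scheme.Hom.germ_stalkMap_apply, Scheme.Hom.appLE, CommRingCat.comp_apply]
      exact X.presheaf.germ_res_apply _ x hx _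
  haveI := hV.isLocalization_stalk ⟨f x, e hx⟩
  exact tr_base_localization Γ(S, V) (hV.primeIdealOf ⟨f x, e hx⟩).asIdeal.primeCompl _

/-- Transversal regularity on an affine pair is transversal regularity at all its points. -/
theorem tr_affine_iff' {V : S.Opens} (hV : IsAffineOpen V) {U : X.Opens} (hU : IsAffineOpen U)
    (e : U ≤ f ⁻¹ᵁ V) (rs : List Γ(X, U)) :
    @RegImm.IsTransRegularSeq Γ(S, V) Γ(X, U) _ _ (f.appLE V U e).hom.toAlgebra rs ↔
      ∀ (x : X) (hx : x ∈ U), TRL f x (rs.map (X.presheaf.germ U x hx).hom) := by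
  letI := (f.appLE V U e).hom.toAlgebra
  constructor
  · intro h x hx
    rw [trL_iff f hV e hx]
    letI := TopCat.Presheaf.algebra_section_stalk X.presheaf (⟨x, hx⟩ : U)
    letI := ((X.presheaf.germ U x hx).hom.comp (f.appLE V U e).hom).toAlgebra
    haveI : IsScalarTower Γ(S, V) Γ(X, U) (X.presheaf.stalk x) := IsScalarTower.of_algebraMap_eq fun _ => rfl
    haveI := hU.isLocalization_stalk ⟨x, hx⟩
    exact tr_localization Γ(S, V) (hU.primeIdealOf ⟨x, hx⟩).asIdeal.primeCompl _ _ h
  · intro h
    have hmem : ∀ (P : Ideal Γ(X, U)) [P.IsMaximal], hU.fromSpec ⟨P, inferInstance⟩ ∈ U := fun P _ =>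
      (hU.isoSpec.inv _).2
    let Bm : ∀ (P : Ideal Γ(X, U)) [P.IsMaximal], Type u := fun P _ =>
      X.presheaf.stalk (hU.fromSpec ⟨P, inferInstance⟩)
    letI cr : ∀ (P : Ideal Γ(X, U)) [P.IsMaximal], CommRing (Bm P) := fun P _ =>
      inferInstanceAs (CommRing (X.presheaf.stalk (hU.fromSpec ⟨P, inferInstance⟩)))
    letI alg : ∀ (P : Ideal Γ(X, U)) [P.IsMaximal], Algebra Γ(X, U) (Bm P) :=
      fun P _ => TopCat.Presheaf.algebra_section_stalk X.presheaf (⟨_, hmem P⟩ : U)
    letI alg' : ∀ (P : Ideal Γ(X, U)) [P.IsMaximal], Algebra Γ(S, V) (Bm P) :=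
      fun P _ => ((X.presheaf.germ U _ (hmem P)).hom.comp (f.appLE V U e).hom).toAlgebra
    have hloc : ∀ (P : Ideal Γ(X, U)) [P.IsMaximal], IsLocalization.AtPrime (Bm P) P :=
      fun P _ => hU.isLocalization_stalk' ⟨P, inferInstance⟩ (hmem P)
    have htow : ∀ (P : Ideal Γ(X, U)) [P.IsMaximal], IsScalarTower Γ(S, V) Γ(X, U) (Bm P) :=
      fun P _ => IsScalarTower.of_algebraMap_eq fun _ => rfl
    refine @tr_of_maximal Γ(S, V) Γ(X, U) _ _ _ Bm cr alg hloc alg' htow _ fun P hP => ?_
    exact (trL_iff f hV e (hmem P) _).1 (h _ (hmem P))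


/-- At a point of an affine pair the germs of global sections may be read over the sections of the base. -/
theorem trAt_iff {V : S.Opens} (hV : IsAffineOpen V) {U : X.Opens} (e : U ≤ f ⁻¹ᵁ V) (fs : List Γ(X, ⊤))
    {x : X} (hx : x ∈ U) :
    TRAt f fs x ↔ @RegImm.IsTransRegularSeq Γ(S, V) (X.presheaf.stalk x) _ _
      (((X.presheaf.germ U x hx).hom.comp (f.appLE V U e).hom).toAlgebra) (germs fs x) :=
  trL_iff f hV e hx (germs fs x)

/-- Transversal regularity on an affine pair is transversal regularity at all its points. -/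
theorem tr_affine_iff {V : S.Opens} (hV : IsAffineOpen V) {U : X.Opens} (hU : IsAffineOpen U)
    (e : U ≤ f ⁻¹ᵁ V) (fs : List Γ(X, ⊤)) :
    @RegImm.IsTransRegularSeq Γ(S, V) Γ(X, U) _ _ (f.appLE V U e).hom.toAlgebra (restr fs U) ↔
      ∀ x ∈ U, TRAt f fs x := by
  refine (tr_affine_iff' f hV hU e _).trans (forall_congr' fun x => forall_congr' fun hx => ?_)
  rw [germ_restr fs U x hx]
  rfl

end TransLimLib
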