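import Groth.Prelude.Def_RegImm
import Groth.Prelude.Def_FlatCA
import Groth.Agent.RichLib.FlatColimit
import Groth.Agent.RichLib.FlatSyzygy
import Groth.Agent.GeomPureLib.Impurity.Colim
import Mathlib

/-!
# Transversally regular sequences: base change and descent along directed colimits of rings
-/

set_option autoImplicit false
set_option backward.isDefEq.respectTransparency false
set_option linter.unusedSectionVars false
set_option linter.style.haveILetI false

universe u

open TensorProduct RingTheory.Sequence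

noncomputable section

namespace TransLimLib

/-- `f` is regular modulo `J`. -/
def Step {B : Type u} [CommRing B] (J : Ideal B) (f : B) : Prop := ∀ x, f * x ∈ J → x ∈ J

theorem isWeaklyRegular_iff {B : Type u} [CommRing B] (rs : List B) :
    IsWeaklyRegular B rs ↔ ∀ i (hi : i < rs.length), Step (Ideal.ofList (rs.take i)) rs[i] := by
  constructor
  · intro h i hi x hx
    have h1 := mem_of_isSMulRegular_quotient_of_smul_mem (h.regular_mod_prev i hi) (x := x)
    simp only [smul_eq_mul, Ideal.mul_top] at h1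
    exact h1 hx
  · intro h
    refine ⟨fun i hi => ?_⟩
    rw [isSMulRegular_quotient_iff_mem_of_smul_mem]
    intro x hx
    simp only [smul_eq_mul, Ideal.mul_top] at hx ⊢
    exact h i hi x hx

theorem ofList_fg {B : Type u} [CommRing B] (rs : List B) : (Ideal.ofList rs).FG :=
  Submodule.fg_span rs.finite_toSet

theorem ofList_take_succ {B : Type u} [CommRing B] (rs : List B) {i : ℕ} (hi : i < rs.length) :
    Ideal.ofList (rs.take (i + 1)) = Ideal.ofList (rs.take i) ⊔ Ideal.span {rs[i]} := by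
  rw [List.take_add_one, List.getElem?_eq_getElem hi, Option.toList_some, Ideal.ofList_append,
    Ideal.ofList_singleton]

theorem ofList_map_take {B B' : Type u} [CommRing B] [CommRing B'] (g : B →+* B') (rs : List B) (i : ℕ) :
    Ideal.ofList ((rs.map g).take i) = (Ideal.ofList (rs.take i)).map g := by
  rw [← List.map_take, Ideal.map_ofList]

/-- Being transversally regular is invariant under isomorphisms of algebras. -/
theorem tr_equiv {A B B' : Type u} [CommRing A] [CommRing B] [CommRing B'] [Algebra A B] [Algebra A B']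
    (e : B ≃ₐ[A] B') (rs : List B) (rs' : List B') (hrs : rs' = rs.map e)
    (h : RegImm.IsTransRegularSeq A B rs) : RegImm.IsTransRegularSeq A B' rs' := by
  subst hrs
  refine ⟨(isWeaklyRegular_iff _).2 fun i hi x hx => ?_, fun j hj => ?_⟩
  · rw [List.length_map] at hi
    have hJ : Ideal.ofList ((rs.map e).take i) = (Ideal.ofList (rs.take i)).map e.toRingEquiv.toRingHom :=
      ofList_map_take e.toRingEquiv.toRingHom rs i
    rw [hJ] at hx ⊢
    rw [Ideal.mem_map_iff_of_surjective e.toRingEquiv.toRingHom e.surjective] at hx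
    obtain ⟨y, hy, hy'⟩ := hx
    rw [List.getElem_map] at hy'
    have h1 : rs[i] * e.symm x ∈ Ideal.ofList (rs.take i) := by
      have h2 : y = rs[i] * e.symm x := e.injective (by
        rw [map_mul, e.apply_symm_apply]; exact hy')
      exact h2 ▸ hy
    have := Ideal.mem_map_of_mem e.toRingEquiv.toRingHom ((isWeaklyRegular_iff rs).1 h.1 i hi _ h1)
    rwa [show e.toRingEquiv.toRingHom (e.symm x) = x from e.apply_symm_apply x] at this
  · rw [List.length_map] at hj
    haveI := h.2 j hj
    exact Module.Flat.of_linearEquiv (Ideal.quotientEquivAlg _ _ e (ofList_map_take _ rs j)).toLinearEquiv.symm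

section Tensor

variable {A B : Type u} [CommRing A] [CommRing B] [Algebra A B] (A' : Type u) [CommRing A'] [Algebra A A']

/-- The tensored quotient by an ideal is the quotient by the generated ideal. -/
def quotTensor (J : Ideal B) :
    ((A' ⊗[A] B) ⧸ J.map (Algebra.TensorProduct.includeRight : B →ₐ[A] A' ⊗[A] B)) ≃ₐ[A'] A' ⊗[A] (B ⧸ J) := by
  have hs : Function.Surjective
      (Algebra.TensorProduct.map (AlgHom.id A' A') (Ideal.Quotient.mkₐ A J) : A' ⊗[A] B →ₐ[A'] A' ⊗[A] (B ⧸ J)) := by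
    exact LinearMap.lTensor_surjective A' (g := (Ideal.Quotient.mkₐ A J).toLinearMap) Ideal.Quotient.mk_surjective
  refine (Ideal.quotientEquivAlgOfEq A' ?_).trans (Ideal.quotientKerAlgEquivOfSurjective hs)
  have h := Algebra.TensorProduct.lTensor_ker (R := A) (A := A') (Ideal.Quotient.mkₐ A J) Ideal.Quotient.mk_surjective
  have hker : RingHom.ker (Ideal.Quotient.mkₐ A J) = J := Ideal.Quotient.mkₐ_ker A J
  rw [hker] at h
  exact h.symm

/-- A colon ideal of flat cokernel commutes with base change. -/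
theorem colon_tensor {J C : Ideal B} {f : B} (hC : ∀ x, f * x ∈ J ↔ x ∈ C)
    (hK : Module.Flat A (B ⧸ (J ⊔ Ideal.span {f}))) (z : A' ⊗[A] B)
    (hz : ((1 : A') ⊗ₜ[A] f) * z ∈ J.map (Algebra.TensorProduct.includeRight : B →ₐ[A] A' ⊗[A] B)) :
    z ∈ C.map (Algebra.TensorProduct.includeRight : B →ₐ[A] A' ⊗[A] B) := by
  let K := J ⊔ Ideal.span {f}
  let mu : B →ₗ[A] B ⧸ J := (Ideal.Quotient.mkₐ A J).toLinearMap ∘ₗ LinearMap.mulLeft A f
  let mu' : B →ₗ[A] LinearMap.range mu := mu.rangeRestrict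
  let psi : (B ⧸ J) →ₗ[A] B ⧸ K := (Ideal.Quotient.factorₐ A (le_sup_left : J ≤ K)).toLinearMap
  have hpsi : Function.Surjective psi := fun y => by
    obtain ⟨b, rfl⟩ := Ideal.Quotient.mk_surjective y
    exact ⟨Ideal.Quotient.mk J b, rfl⟩
  have hex : Function.Exact (LinearMap.range mu).subtype psi := by
    intro y
    obtain ⟨b, rfl⟩ := Ideal.Quotient.mk_surjective y
    change (Ideal.Quotient.mk K b = 0) ↔ _
    rw [Ideal.Quotient.eq_zero_iff_mem]
    constructor
    · intro hb
      obtain ⟨j, hj, w, hw, hjw⟩ := Submodule.mem_sup.1 hb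
      obtain ⟨c, rfl⟩ := Ideal.mem_span_singleton'.1 hw
      refine ⟨⟨Ideal.Quotient.mk J b, c, ?_⟩, rfl⟩
      show Ideal.Quotient.mk J (f * c) = Ideal.Quotient.mk J b
      rw [Ideal.Quotient.eq, ← hjw, mul_comm f c]
      simpa using neg_mem hj
    · rintro ⟨⟨w, c, hc⟩, hw⟩
      change w = Ideal.Quotient.mk J b at hw
      have hc' : Ideal.Quotient.mk J (f * c) = Ideal.Quotient.mk J b := hc.trans hw
      rw [Ideal.Quotient.eq] at hc'
      rw [show b = f * c - (f * c - b) by ring]
      exact sub_mem (Ideal.mem_sup_right (Ideal.mul_mem_right _ _ (Ideal.mem_span_singleton_self f)))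
        (Ideal.mem_sup_left hc')
  haveI := hK
  have hinj : Function.Injective ((LinearMap.range mu).subtype.lTensor A') :=
    LinearMap.lTensor_injective_of_exact_of_flat psi hpsi _ Subtype.val_injective hex A'
  have hkermu : ∀ y : B, mu' y = 0 ↔ y ∈ C := fun y => by
    rw [← hC, ← Ideal.Quotient.eq_zero_iff_mem]
    exact Subtype.ext_iff
  have hex' : Function.Exact ((C.restrictScalars A).subtype.lTensor A') (mu'.lTensor A') := by
    refine lTensor_exact A' (fun y => ?_) mu.surjective_rangeRestrict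
    rw [hkermu]
    exact ⟨fun h => ⟨⟨y, h⟩, rfl⟩, by rintro ⟨w, rfl⟩; exact w.2⟩
  let q := Algebra.TensorProduct.map (AlgHom.id A A') (Ideal.Quotient.mkₐ A J)
  have hq : ∀ w : A' ⊗[A] B, q (((1 : A') ⊗ₜ[A] f) * w) = mu.lTensor A' w := fun w => by
    induction w using TensorProduct.induction_on with
    | zero => simp
    | add a b ha hb => simp only [mul_add, map_add, ha, hb]
    | tmul a b => simp [q, mu]
  have hqz : q (((1 : A') ⊗ₜ[A] f) * z) = 0 := by
    have h := Algebra.TensorProduct.lTensor_ker (R := A) (A := A') (Ideal.Quotient.mkₐ A J) Ideal.Quotient.mk_surjective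
    rw [show RingHom.ker (Ideal.Quotient.mkₐ A J) = J from Ideal.Quotient.mkₐ_ker A J] at h
    exact RingHom.mem_ker.1 (h.ge hz)
  rw [hq] at hqz
  have hz' : mu'.lTensor A' z = 0 := hinj (by
    rw [map_zero, ← LinearMap.comp_apply, ← LinearMap.lTensor_comp]
    exact hqz)
  obtain ⟨w, rfl⟩ := (hex' z).1 hz'
  clear hz hqz hz'
  induction w using TensorProduct.induction_on with
  | zero => simp
  | add a b ha hb => rw [map_add]; exact add_mem ha hb
  | tmul a c =>
    rw [LinearMap.lTensor_tmul]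
    change a ⊗ₜ[A] (c : B) ∈ _
    rw [show a ⊗ₜ[A] (c : B) = (a ⊗ₜ[A] (1 : B)) *
      (Algebra.TensorProduct.includeRight : B →ₐ[A] A' ⊗[A] B) (c : B) by simp]
    exact Ideal.mul_mem_left _ _ (Ideal.mem_map_of_mem _ c.2)

/-- Transversally regular sequences stay so after base change. -/
theorem tr_tensor (rs : List B) (h : RegImm.IsTransRegularSeq A B rs) :
    RegImm.IsTransRegularSeq A' (A' ⊗[A] B)
      (rs.map (Algebra.TensorProduct.includeRight : B →ₐ[A] A' ⊗[A] B)) := by
  let inc : B →ₐ[A] A' ⊗[A] B := Algebra.TensorProduct.includeRight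
  have hmap : ∀ i, Ideal.ofList ((rs.map inc).take i) = (Ideal.ofList (rs.take i)).map inc :=
    fun i => ofList_map_take inc.toRingHom rs i
  refine ⟨(isWeaklyRegular_iff _).2 fun i hi z hz => ?_, fun j hj => ?_⟩
  · rw [List.length_map] at hi
    change z ∈ Ideal.ofList ((rs.map inc).take i)
    rw [hmap]
    rw [List.getElem_map] at hz
    refine colon_tensor A' (J := Ideal.ofList (rs.take i)) (C := Ideal.ofList (rs.take i)) (f := rs[i]) (fun x => ?_) ?_ z ?_
    · exact ⟨(isWeaklyRegular_iff rs).1 h.1 i hi x, fun hx => Ideal.mul_mem_left _ _ hx⟩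
    · rw [← ofList_take_succ rs hi]
      exact h.2 (i + 1) hi
    · rw [← hmap]; exact hz
  · rw [List.length_map] at hj
    haveI := h.2 j hj
    exact Module.Flat.of_linearEquiv ((Ideal.quotientEquivAlgOfEq A' (hmap j)).trans
      (quotTensor A' (Ideal.ofList (rs.take j)))).toLinearEquiv

/-- Transversally regular sequences along a cocartesian square of rings. -/
theorem tr_isPushout (B' : Type u) [CommRing B'] [Algebra A' B'] [Algebra B B'] [Algebra A B']
    [IsScalarTower A A' B'] [IsScalarTower A B B'] [Algebra.IsPushout A A' B B']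
    (rs : List B) (h : RegImm.IsTransRegularSeq A B rs) :
    RegImm.IsTransRegularSeq A' B' (rs.map (algebraMap B B')) := by
  refine tr_equiv (Algebra.IsPushout.equiv A A' B B') _ _ ?_ (tr_tensor A' rs h)
  rw [List.map_map]
  refine List.map_congr_left fun b _ => ?_
  simp [Algebra.IsPushout.equiv_tmul]

end Tensor

section Tower

variable (A₀ R : Type u) [CommRing A₀] [CommRing R] [Algebra A₀ R] (R' : Type u) [CommRing R'] [Algebra A₀ R']
  {B₀ : Type u} [CommRing B₀] [Algebra A₀ B₀]

/-- Transversal regularity of a base change propagates along maps of the coefficient algebra. -/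
theorem tr_map (θ : R →ₐ[A₀] R') (rs : List B₀)
    (h : RegImm.IsTransRegularSeq R (R ⊗[A₀] B₀)
      (rs.map (Algebra.TensorProduct.includeRight : B₀ →ₐ[A₀] R ⊗[A₀] B₀))) :
    RegImm.IsTransRegularSeq R' (R' ⊗[A₀] B₀)
      (rs.map (Algebra.TensorProduct.includeRight : B₀ →ₐ[A₀] R' ⊗[A₀] B₀)) := by
  letI := θ.toRingHom.toAlgebra
  haveI : IsScalarTower A₀ R R' := IsScalarTower.of_algebraMap_eq fun r => (θ.commutes r).symm
  refine tr_equiv (Algebra.TensorProduct.cancelBaseChange A₀ R R' R' B₀) _ _ ?_ (tr_tensor R' _ h)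
  rw [List.map_map, List.map_map]
  refine List.map_congr_left fun b _ => ?_
  simp

end Tower

section Descent

variable {A₀ : Type u} [CommRing A₀] {ι : Type u} [Preorder ι] (G : ι → Type u) [∀ i, CommRing (G i)]
  [∀ i, Algebra A₀ (G i)] (g : ∀ i j, i ≤ j → G i →ₐ[A₀] G j)
  (A : Type u) [CommRing A] [Algebra A₀ A] [∀ i, Algebra (G i) A] [∀ i, IsScalarTower A₀ (G i) A]
  {B₀ : Type u} [CommRing B₀] [Algebra A₀ B₀]

/-- The map of base changes between two stages. -/
abbrev bcMap {R R' : Type u} [CommRing R] [Algebra A₀ R] [CommRing R'] [Algebra A₀ R'] (θ : R →ₐ[A₀] R') :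
    R ⊗[A₀] B₀ →ₐ[A₀] R' ⊗[A₀] B₀ :=
  Algebra.TensorProduct.map θ (AlgHom.id A₀ B₀)

theorem bcMap_incl {R R' : Type u} [CommRing R] [Algebra A₀ R] [CommRing R'] [Algebra A₀ R']
    (θ : R →ₐ[A₀] R') (b : B₀) :
    bcMap θ ((Algebra.TensorProduct.includeRight : B₀ →ₐ[A₀] R ⊗[A₀] B₀) b) =
      (Algebra.TensorProduct.includeRight : B₀ →ₐ[A₀] R' ⊗[A₀] B₀) b := by
  simp

theorem bcMap_map_ofList {R R' : Type u} [CommRing R] [Algebra A₀ R] [CommRing R'] [Algebra A₀ R']
    (θ : R →ₐ[A₀] R') (rs : List B₀) :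
    (Ideal.ofList (rs.map (Algebra.TensorProduct.includeRight : B₀ →ₐ[A₀] R ⊗[A₀] B₀))).map (bcMap θ).toRingHom =
      Ideal.ofList (rs.map (Algebra.TensorProduct.includeRight : B₀ →ₐ[A₀] R' ⊗[A₀] B₀)) := by
  rw [Ideal.map_ofList, List.map_map]
  refine congrArg Ideal.ofList (List.map_congr_left fun b _ => ?_)
  simp

/-- An element lying in the ideal of the sequence in the colimit does so at a later stage. -/
theorem exists_mem_stage (hc : FlatCA.IsDirectedColimitRing G (fun i j h => (g i j h).toRingHom) A)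
    (rs : List B₀) (i : ι) (b : G i ⊗[A₀] B₀)
    (hb : bcMap (IsScalarTower.toAlgHom A₀ (G i) A) b ∈
      Ideal.ofList (rs.map (Algebra.TensorProduct.includeRight : B₀ →ₐ[A₀] A ⊗[A₀] B₀))) :
    ∃ (j : ι) (h : i ≤ j), bcMap (g i j h) b ∈
      Ideal.ofList (rs.map (Algebra.TensorProduct.includeRight : B₀ →ₐ[A₀] G j ⊗[A₀] B₀)) := by
  classical
  obtain ⟨hsurj, hzero⟩ := GeomPureLib.colim_tensor G g A hc B₀
  haveI : IsDirectedOrder ι := hc.1
  have hcompat : ∀ (j k : ι) (h : j ≤ k) (x : G j), algebraMap (G k) A (g j k h x) = algebraMap (G j) A x :=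
    fun j k h x => RingHom.congr_fun (hc.2.2.2.2.1 j k h) x
  have hcomp : ∀ (j k l : ι) (h : j ≤ k) (h' : k ≤ l) (w : G j ⊗[A₀] B₀),
      bcMap (g k l h') (bcMap (g j k h) w) = bcMap (g j l (h.trans h')) w := fun j k l h h' w => by
    induction w using TensorProduct.induction_on with
    | zero => simp
    | add a b ha hb => simp only [map_add, ha, hb]
    | tmul a c =>
      simp only [bcMap, Algebra.TensorProduct.map_tmul, AlgHom.coe_id, id_eq]
      exact congrArg (· ⊗ₜ[A₀] c) (RingHom.congr_fun (hc.2.2.2.1 j k l h h') a)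
  have htop : ∀ (j k : ι) (h : j ≤ k) (w : G j ⊗[A₀] B₀),
      bcMap (IsScalarTower.toAlgHom A₀ (G k) A) (bcMap (g j k h) w) = bcMap (IsScalarTower.toAlgHom A₀ (G j) A) w :=
    fun j k h w => by
    induction w using TensorProduct.induction_on with
    | zero => simp
    | add a b ha hb => simp only [map_add, ha, hb]
    | tmul a c =>
      simp only [bcMap, Algebra.TensorProduct.map_tmul, AlgHom.coe_id, id_eq, IsScalarTower.coe_toAlgHom', hcompat]
  -- every element of the ideal comes from some stage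
  have key : ∀ y ∈ Ideal.ofList (rs.map (Algebra.TensorProduct.includeRight : B₀ →ₐ[A₀] A ⊗[A₀] B₀)),
      ∃ (j : ι) (x : G j ⊗[A₀] B₀),
        x ∈ Ideal.ofList (rs.map (Algebra.TensorProduct.includeRight : B₀ →ₐ[A₀] G j ⊗[A₀] B₀)) ∧
        bcMap (IsScalarTower.toAlgHom A₀ (G j) A) x = y := by
    intro y hy
    haveI : Nonempty ι := hc.2.1
    refine Submodule.span_induction (fun r hr => ?_) ⟨i, 0, zero_mem _, map_zero _⟩ (fun u v _ _ hu hv => ?_)
      (fun c u _ hu => ?_) hy
    · obtain ⟨b₀, hb₀, rfl⟩ := List.mem_map.1 hr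
      exact ⟨i, (Algebra.TensorProduct.includeRight : B₀ →ₐ[A₀] G i ⊗[A₀] B₀) b₀,
        Ideal.subset_span (List.mem_map.2 ⟨b₀, hb₀, rfl⟩), by simp⟩
    · obtain ⟨j, x, hx, rfl⟩ := hu
      obtain ⟨k, y, hy, rfl⟩ := hv
      obtain ⟨l, hjl, hkl⟩ := exists_ge_ge j k
      refine ⟨l, bcMap (g j l hjl) x + bcMap (g k l hkl) y, add_mem ?_ ?_, by rw [map_add, htop, htop]⟩
      · rw [← bcMap_map_ofList (g j l hjl) rs]; exact Ideal.mem_map_of_mem _ hx
      · rw [← bcMap_map_ofList (g k l hkl) rs]; exact Ideal.mem_map_of_mem _ hy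
    · obtain ⟨j, x, hx, rfl⟩ := hu
      obtain ⟨k, c', hc'⟩ := hsurj c
      obtain ⟨l, hjl, hkl⟩ := exists_ge_ge j k
      refine ⟨l, bcMap (g k l hkl) c' * bcMap (g j l hjl) x, Ideal.mul_mem_left _ _ ?_, ?_⟩
      · rw [← bcMap_map_ofList (g j l hjl) rs]; exact Ideal.mem_map_of_mem _ hx
      · rw [map_mul, htop, htop, smul_eq_mul, ← hc']
        rfl
  obtain ⟨j, x, hx, hxy⟩ := key _ hb
  obtain ⟨l, hil, hjl⟩ := exists_ge_ge i j
  obtain ⟨m, hlm, hm⟩ := hzero l (bcMap (g i l hil) b - bcMap (g j l hjl) x) (by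
    show bcMap (IsScalarTower.toAlgHom A₀ (G l) A) (bcMap (g i l hil) b - bcMap (g j l hjl) x) = 0
    rw [map_sub, htop, htop, hxy, sub_self])
  refine ⟨m, hil.trans hlm, ?_⟩
  have h1 : bcMap (g i m (hil.trans hlm)) b = bcMap (g j m (hjl.trans hlm)) x := by
    rw [← hcomp i l m hil hlm, ← hcomp j l m hjl hlm, ← sub_eq_zero, ← map_sub]
    exact hm
  rw [h1, ← bcMap_map_ofList (g j m (hjl.trans hlm)) rs]
  exact Ideal.mem_map_of_mem _ hx

/-- Transversal regularity over a directed colimit holds at a stage. -/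
theorem exists_tr_stage (hc : FlatCA.IsDirectedColimitRing G (fun i j h => (g i j h).toRingHom) A)
    [Algebra.FinitePresentation A₀ B₀] (rs : List B₀)
    (h : RegImm.IsTransRegularSeq A (A ⊗[A₀] B₀)
      (rs.map (Algebra.TensorProduct.includeRight : B₀ →ₐ[A₀] A ⊗[A₀] B₀))) :
    ∃ i, RegImm.IsTransRegularSeq (G i) (G i ⊗[A₀] B₀)
      (rs.map (Algebra.TensorProduct.includeRight : B₀ →ₐ[A₀] G i ⊗[A₀] B₀)) := by
  classical
  haveI : IsDirectedOrder ι := hc.1
  haveI : Nonempty ι := hc.2.1
  have hJ : ∀ (R : Type u) [CommRing R] [Algebra A₀ R] (k : ℕ),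
      Ideal.ofList ((rs.map (Algebra.TensorProduct.includeRight : B₀ →ₐ[A₀] R ⊗[A₀] B₀)).take k) =
        (Ideal.ofList (rs.take k)).map (Algebra.TensorProduct.includeRight : B₀ →ₐ[A₀] R ⊗[A₀] B₀) :=
    fun R _ _ k => ofList_map_take (Algebra.TensorProduct.includeRight : B₀ →ₐ[A₀] R ⊗[A₀] B₀).toRingHom rs k
  -- flatness at a stage
  have hflat : ∀ k : Fin (rs.length + 1), ∃ i, ∀ j, i ≤ j →
      Module.Flat (G j) ((G j ⊗[A₀] B₀) ⧸
        Ideal.ofList ((rs.map (Algebra.TensorProduct.includeRight : B₀ →ₐ[A₀] G j ⊗[A₀] B₀)).take k)) := by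
    intro k
    haveI : Module.FinitePresentation B₀ (B₀ ⧸ Ideal.ofList (rs.take k)) :=
      Module.finitePresentation_of_surjective (Submodule.mkQ _) (Submodule.mkQ_surjective _)
        (by rw [Submodule.ker_mkQ]; exact ofList_fg _)
    haveI := h.2 k (by rw [List.length_map]; omega)
    have hA : Module.Flat A (A ⊗[A₀] (B₀ ⧸ Ideal.ofList (rs.take k))) :=
      Module.Flat.of_linearEquiv ((quotTensor (A := A₀) (B := B₀) A (Ideal.ofList (rs.take k))).symm.trans
        (Ideal.quotientEquivAlgOfEq A (hJ A k).symm)).toLinearEquiv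
    obtain ⟨i, hi⟩ := (RichLib.FlatColimit.flat_iff_exists_stage G g A hc (B₀ := B₀)
      (B₀ ⧸ Ideal.ofList (rs.take k))).1 hA
    refine ⟨i, fun j hij => ?_⟩
    letI := (g i j hij).toRingHom.toAlgebra
    haveI : IsScalarTower A₀ (G i) (G j) := IsScalarTower.of_algebraMap_eq fun r => ((g i j hij).commutes r).symm
    haveI : Module.Flat (G j) (G j ⊗[A₀] (B₀ ⧸ Ideal.ofList (rs.take k))) :=
      Module.Flat.of_linearEquiv (AlgebraTensorModule.cancelBaseChange A₀ (G i) (G j) (G j) _).symm
    exact Module.Flat.of_linearEquiv ((Ideal.quotientEquivAlgOfEq (G j) (hJ (G j) k)).trans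
      (quotTensor (G j) (Ideal.ofList (rs.take k)))).toLinearEquiv
  choose ik hik using hflat
  obtain ⟨i, hi⟩ := (Finset.univ.image ik).exists_le
  let R := G i
  let B := R ⊗[A₀] B₀
  let incl : B₀ →ₐ[A₀] B := Algebra.TensorProduct.includeRight
  let rB := rs.map incl
  have hlen : rB.length = rs.length := List.length_map _
  have hflatR : ∀ j, j ≤ rs.length → Module.Flat R (B ⧸ Ideal.ofList (rB.take j)) := fun j hj =>
    hik ⟨j, by omega⟩ i (hi _ (Finset.mem_image_of_mem ik (Finset.mem_univ _)))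
  -- regularity at a stage
  have hreg : ∀ k : Fin rs.length, ∃ l, ∀ (m : ι), l ≤ m → i ≤ m →
      Step (Ideal.ofList ((rs.map (Algebra.TensorProduct.includeRight : B₀ →ₐ[A₀] G m ⊗[A₀] B₀)).take k))
        ((Algebra.TensorProduct.includeRight : B₀ →ₐ[A₀] G m ⊗[A₀] B₀) rs[k]) := by
    intro k
    let J := Ideal.ofList (rB.take k)
    let f := incl rs[k]
    let K := J ⊔ Ideal.span {f}
    have hKeq : Ideal.ofList (rB.take ((k : ℕ) + 1)) = K := by
      rw [ofList_take_succ rB (i := k) (by omega)]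
      simp [K, J, f, rB]
    let mu : B →ₗ[B] B ⧸ J := (Submodule.mkQ J) ∘ₗ LinearMap.mulLeft B f
    let C : Ideal B := LinearMap.ker mu
    have hC : ∀ x, f * x ∈ J ↔ x ∈ C := fun x => by
      rw [LinearMap.mem_ker]
      exact (Submodule.Quotient.mk_eq_zero J).symm
    have hCfg : C.FG := by
      haveI : Module.FinitePresentation B (B ⧸ J) :=
        Module.finitePresentation_of_surjective (Submodule.mkQ _) (Submodule.mkQ_surjective _)
          (by rw [Submodule.ker_mkQ]; exact ofList_fg _)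
      haveI : Module.FinitePresentation B (B ⧸ K) :=
        Module.finitePresentation_of_surjective (Submodule.mkQ _) (Submodule.mkQ_surjective _)
          (by rw [Submodule.ker_mkQ]; exact Submodule.FG.sup (ofList_fg _) (Submodule.fg_span_singleton f))
      haveI : Module.Flat R (B ⧸ K) := hKeq ▸ hflatR _ (by omega)
      let psi : (B ⧸ J) →ₗ[B] B ⧸ K := Submodule.factor le_sup_left
      have hker : LinearMap.ker psi = LinearMap.range mu := by
        refine SetLike.ext fun y => ?_
        obtain ⟨b, rfl⟩ := Submodule.Quotient.mk_surjective _ y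
        rw [LinearMap.mem_ker, show psi (Submodule.Quotient.mk b) = Submodule.Quotient.mk b from rfl,
          Submodule.Quotient.mk_eq_zero]
        constructor
        · intro hb
          obtain ⟨j, hj, w, hw, hjw⟩ := Submodule.mem_sup.1 hb
          obtain ⟨c, rfl⟩ := Ideal.mem_span_singleton'.1 hw
          refine ⟨c, (Submodule.Quotient.eq J).2 ?_⟩
          rw [← hjw, LinearMap.mulLeft_apply, mul_comm f c]
          simpa using neg_mem hj
        · rintro ⟨c, hc'⟩
          have h1 : f * c - b ∈ J := (Submodule.Quotient.eq J).1 hc'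
          rw [show b = f * c - (f * c - b) by ring]
          exact sub_mem (Ideal.mem_sup_right (Ideal.mul_mem_right _ _ (Ideal.mem_span_singleton_self f)))
            (Ideal.mem_sup_left h1)
      haveI := RichLib.FlatSyzygy.fp_ker (A := R) psi (Submodule.factor_surjective _)
      haveI : Module.FinitePresentation B (LinearMap.range mu) :=
        Module.FinitePresentation.of_equiv (LinearEquiv.ofEq _ _ hker)
      have := Module.FinitePresentation.fg_ker mu.rangeRestrict mu.surjective_rangeRestrict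
      rwa [LinearMap.ker_rangeRestrict] at this
    obtain ⟨T, hT⟩ := hCfg
    have hTA : ∀ c : T, ∃ (l : ι) (hl : i ≤ l), bcMap (g i l hl) (c : B) ∈
        Ideal.ofList ((rs.take k).map (Algebra.TensorProduct.includeRight : B₀ →ₐ[A₀] G l ⊗[A₀] B₀)) := by
      intro c
      refine exists_mem_stage G g A hc (rs.take k) i (c : B) ?_
      have hcC : (c : B) ∈ C := hT ▸ Submodule.subset_span c.2
      have hfc := Ideal.mem_map_of_mem (bcMap (IsScalarTower.toAlgHom A₀ R A)).toRingHom ((hC c).2 hcC)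
      have hJmap : J.map (bcMap (IsScalarTower.toAlgHom A₀ R A)).toRingHom =
          Ideal.ofList ((rs.map (Algebra.TensorProduct.includeRight : B₀ →ₐ[A₀] A ⊗[A₀] B₀)).take k) := by
        rw [← List.map_take, ← bcMap_map_ofList (IsScalarTower.toAlgHom A₀ R A) (rs.take k)]
        simp [J, rB, incl, List.map_take]
        rfl
      rw [hJmap] at hfc
      rw [List.map_take]
      refine (isWeaklyRegular_iff _).1 h.1 k (by rw [List.length_map]; exact k.2) _ ?_
      rw [List.getElem_map]
      have hf : bcMap (IsScalarTower.toAlgHom A₀ R A) f =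
          (Algebra.TensorProduct.includeRight : B₀ →ₐ[A₀] A ⊗[A₀] B₀) rs[k] := by
        show Algebra.TensorProduct.map _ _ ((1 : R) ⊗ₜ[A₀] rs[k]) = _
        rw [Algebra.TensorProduct.map_tmul, map_one]
        rfl
      rw [AlgHom.toRingHom_eq_coe, RingHom.coe_coe, map_mul, hf] at hfc
      exact hfc
    choose lc hlc hmem using hTA
    obtain ⟨l, hl⟩ := (Finset.univ.image lc).exists_le
    refine ⟨l, fun m hlm him z hz => ?_⟩
    letI := (g i m him).toRingHom.toAlgebra
    haveI : IsScalarTower A₀ (G i) (G m) := IsScalarTower.of_algebraMap_eq fun r => ((g i m him).commutes r).symm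
    let e := Algebra.TensorProduct.cancelBaseChange A₀ R (G m) (G m) B₀
    have he : ∀ w : B, e ((1 : G m) ⊗ₜ[R] w) = bcMap (g i m him) w := fun w => by
      induction w using TensorProduct.induction_on with
      | zero => simp
      | add a b ha hb => simp only [tmul_add, map_add, ha, hb]
      | tmul a c => simp [e, Algebra.smul_def, RingHom.algebraMap_toAlgebra]; rfl
    obtain ⟨z, rfl⟩ := e.surjective z
    have hJm : (J.map (Algebra.TensorProduct.includeRight : B →ₐ[R] G m ⊗[R] B)).map e.toRingEquiv.toRingHom =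
        Ideal.ofList ((rs.map (Algebra.TensorProduct.includeRight : B₀ →ₐ[A₀] G m ⊗[A₀] B₀)).take k) := by
      rw [← List.map_take, ← bcMap_map_ofList (g i m him) (rs.take k)]
      show (J.map (Algebra.TensorProduct.includeRight : B →ₐ[R] G m ⊗[R] B).toRingHom).map _ = _
      rw [Ideal.map_map]
      simp only [J, rB, incl, ← List.map_take]
      refine congrArg (fun φ : B →+* _ => Ideal.map φ _) (RingHom.ext fun w => ?_)
      exact he w
    have hz' : ((1 : G m) ⊗ₜ[R] f) * z ∈ J.map (Algebra.TensorProduct.includeRight : B →ₐ[R] G m ⊗[R] B) := by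
      rw [← hJm, Ideal.mem_map_iff_of_surjective e.toRingEquiv.toRingHom e.surjective] at hz
      obtain ⟨y, hy, hy'⟩ := hz
      convert hy
      refine e.injective ?_
      rw [map_mul, he]
      refine Eq.trans ?_ hy'.symm
      congr 1
      exact bcMap_incl _ _
    have hKflat : Module.Flat R (B ⧸ K) := hKeq ▸ hflatR _ (by omega)
    have := colon_tensor (G m) hC hKflat z hz'
    refine (Ideal.map_le_iff_le_comap.2 (Ideal.map_le_iff_le_comap.2 ?_) :
      (C.map (Algebra.TensorProduct.includeRight : B →ₐ[R] G m ⊗[R] B)).map e.toRingEquiv.toRingHom ≤ _)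
      (Ideal.mem_map_of_mem e.toRingEquiv.toRingHom this)
    rw [← hT, Ideal.span_le]
    intro c hcT
    simp only [SetLike.mem_coe, Ideal.mem_comap]
    show e ((1 : G m) ⊗ₜ[R] c) ∈ Ideal.ofList
      ((rs.map (Algebra.TensorProduct.includeRight : B₀ →ₐ[A₀] G m ⊗[A₀] B₀)).take k)
    rw [he]
    have hlm' : lc ⟨c, hcT⟩ ≤ m := (hl _ (Finset.mem_image_of_mem lc (Finset.mem_univ _))).trans hlm
    have h1 := Ideal.mem_map_of_mem (bcMap (g _ m hlm')).toRingHom (hmem ⟨c, hcT⟩)
    rw [bcMap_map_ofList] at h1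
    rw [← List.map_take]
    convert h1 using 1
    rw [AlgHom.toRingHom_eq_coe, RingHom.coe_coe, ← AlgHom.comp_apply, ← Algebra.TensorProduct.map_comp]
    congr 2
    exact AlgHom.ext fun a => (RingHom.congr_fun (hc.2.2.2.1 i (lc ⟨c, hcT⟩) m (hlc _) hlm') a).symm
  choose lk hlk using hreg
  obtain ⟨m, hm⟩ := (insert i (Finset.univ.image lk)).exists_le
  have him : i ≤ m := hm i (Finset.mem_insert_self _ _)
  refine ⟨m, (isWeaklyRegular_iff _).2 fun k hk => ?_, fun j hj => ?_⟩
  · rw [List.getElem_map]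
    rw [List.length_map] at hk
    exact hlk ⟨k, hk⟩ m (hm _ (Finset.mem_insert_of_mem (Finset.mem_image_of_mem lk (Finset.mem_univ _)))) him
  · rw [List.length_map] at hj
    exact hik ⟨j, by omega⟩ m ((hi _ (Finset.mem_image_of_mem ik (Finset.mem_univ _))).trans him)

end Descent

/-- Transversal regularity over an algebra is achieved over a finitely presented one. -/
theorem exists_fp_model {A₀ A B₀ : Type u} [CommRing A₀] [CommRing A] [CommRing B₀] [Algebra A₀ A] [Algebra A₀ B₀]
    [Algebra.FinitePresentation A₀ B₀] (rs : List B₀)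
    (h : RegImm.IsTransRegularSeq A (A ⊗[A₀] B₀)
      (rs.map (Algebra.TensorProduct.includeRight : B₀ →ₐ[A₀] A ⊗[A₀] B₀))) :
    ∃ (R : Type u) (_ : CommRing R) (_ : Algebra A₀ R) (_ : Algebra.FinitePresentation A₀ R) (_ : R →ₐ[A₀] A),
      RegImm.IsTransRegularSeq R (R ⊗[A₀] B₀)
        (rs.map (Algebra.TensorProduct.includeRight : B₀ →ₐ[A₀] R ⊗[A₀] B₀)) := by
  classical
  obtain ⟨⟨S, hS⟩, hSt⟩ := exists_tr_stage (fun S : {S : Subalgebra A₀ A // S.FG} => S.1)
    (fun _ _ h => Subalgebra.inclusion h) A (RichLib.FlatModel.isDirectedColimitRing_fg A₀ A) rs h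
  haveI : Algebra.FiniteType A₀ S := S.fg_iff_finiteType.mp hS
  obtain ⟨n, π, hπ⟩ := Algebra.FiniteType.iff_quotient_mvPolynomial''.1 (inferInstance : Algebra.FiniteType A₀ S)
  let ι := {I : Ideal (MvPolynomial (Fin n) A₀) // I.FG ∧ I ≤ RingHom.ker π}
  let G : ι → Type u := fun I => MvPolynomial (Fin n) A₀ ⧸ I.1
  let g : ∀ I I' : ι, I ≤ I' → G I →ₐ[A₀] G I' := fun I I' h => Ideal.Quotient.factorₐ A₀ h
  let φ : ∀ I : ι, G I →ₐ[A₀] S := fun I => Ideal.Quotient.liftₐ I.1 π fun x hx => RingHom.mem_ker.1 (I.2.2 hx)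
  letI : ∀ I : ι, Algebra (G I) S := fun I => (φ I).toRingHom.toAlgebra
  haveI : ∀ I : ι, IsScalarTower A₀ (G I) S := fun I => IsScalarTower.of_algebraMap_eq fun r => ((φ I).commutes r).symm
  have hc : FlatCA.IsDirectedColimitRing G (fun I I' h => (g I I' h).toRingHom) S := by
    refine ⟨⟨fun I I' => ⟨⟨I.1 ⊔ I'.1, Submodule.FG.sup I.2.1 I'.2.1, sup_le I.2.2 I'.2.2⟩,
      le_sup_left (a := I.1), le_sup_right (b := I'.1)⟩⟩, ⟨⟨⊥, Submodule.fg_bot, bot_le⟩⟩,
      fun I => Ideal.Quotient.ringHom_ext (RingHom.ext fun x => rfl),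
      fun I I' I'' _ _ => Ideal.Quotient.ringHom_ext (RingHom.ext fun x => rfl),
      fun I I' _ => Ideal.Quotient.ringHom_ext (RingHom.ext fun x => rfl), fun a => ?_, fun I x hx => ?_⟩
    · obtain ⟨p, rfl⟩ := hπ a
      exact ⟨⟨⊥, Submodule.fg_bot, bot_le⟩, Ideal.Quotient.mk _ p, rfl⟩
    · obtain ⟨p, rfl⟩ := Ideal.Quotient.mk_surjective x
      refine ⟨⟨I.1 ⊔ Ideal.span {p}, Submodule.FG.sup I.2.1 (Submodule.fg_span_singleton p),
        sup_le I.2.2 ((Ideal.span_singleton_le_iff_mem _).2 (RingHom.mem_ker.2 hx))⟩, le_sup_left (a := I.1), ?_⟩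
      exact Ideal.Quotient.eq_zero_iff_mem.2 (Ideal.mem_sup_right (Ideal.mem_span_singleton_self p))
  obtain ⟨I, hI⟩ := exists_tr_stage G g S hc rs hSt
  exact ⟨G I, inferInstance, inferInstance, Algebra.FinitePresentation.quotient I.2.1, S.val.comp (φ I), hI⟩

end TransLimLib
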